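import Cfsg.Agent.Omega.NOThreeL.RZ.Frame
import Cfsg.Agent.Omega.NOThreeL.RZ.TwoC.Side
import Cfsg.Agent.Omega.NOThreeL.RLow.Final
import Cfsg.Agent.Omega.NOThreeL.RRed.GlueSigT

/-!
# [R-z]: two centres `K₁ = C_G(e)`, `K₂ = C_G(Z₁)` (bb #24309, #24885, #24934, #25118; integrator helper568)

`C = CZ S = C_G(Z)`, `O = O₂(C)`, `L = LL S R`, `V_L = ⟨Z^L⟩`, `Y = YS S`, `V* = ⟨Z^Y⟩`.

* `Str S R R₁ W X e` : the structure of `V*` which is used: `W` = product of the first-level blocks, `e ∈ Z ∩ X` of full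
  support, `Y = C_Y(R) C_Y(e)`, `X ∩ R = 1` (split case: `X = W`, `R₁ = R`);
* `Fr S Z₀ R R₁ W X e` : the frame: `Frm`, `V_L ≤ O`, `Str`;
* `K₁`, `K₂`, `E₁`, `E₂`, `U₁`, `W₂`, `NR`, `QW` : the groups;
* `TwoQ` : the abstract two-sided situation; `TwoQMain` its socket;
* `TwoEOf` : the instance; `AlphaE`, `BetaE` : the two ends; `StrTv`, `StrQ` : existence of `Str`;
* **`brT_of`** : these give `BrTOf K FBF`, `BrOf K FBF`.
-/

set_option autoImplicit false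

namespace Cfsg.Agent.Omega.NOThreeL.RZ.TwoE

open Subgroup Cfsg
open Cfsg.Agent.ZN (o2 zc zl jj)
open Cfsg.Agent.ZN.ChoiceBase hiding mem_zc
open Cfsg.Agent.Omega.MinPar Cfsg.Agent.Omega.Frame Cfsg.Agent.Omega.FrameNOFF
open Cfsg.Agent.Omega.Node.NO3L Cfsg.Agent.Omega.NOThreeL.Basic Cfsg.Agent.Omega.NOThreeL.Main
open Cfsg.Agent.Omega.EK3.Rank (NoOn)
open Cfsg.Agent.Omega.NOThreeL.Star (YS le_YS S_le_YS zl_mono)
open Cfsg.Agent.Omega.NOThreeL.RTreeF (RBF)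
open Cfsg.Agent.Omega.NOThreeL.RRed.GlueSig (BrTOf BrOf BrrOf FBF)
open scoped Pointwise

universe u

variable {G : Type u} [Group G]

/-! ### The groups -/

/-- `K₁ = C_G(e)` -/
def K₁ (e : G) : Subgroup G := centralizer ({e} : Set G)

/-- `Z₁ = R₁ ∩ Z` -/
def Z₁ (S R₁ : Subgroup G) : Subgroup G := R₁ ⊓ zc S

/-- `K₂ = C_G(Z₁)` -/
def K₂ (S R₁ : Subgroup G) : Subgroup G := centralizer (Z₁ S R₁ : Set G)

/-- `E₁ = (K₁ ∩ Y) N_{K₁}(S)` -/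
def E₁ (S : Subgroup G) (e : G) : Subgroup G := (K₁ e ⊓ YS S) ⊔ (K₁ e ⊓ normalizer (S : Set G))

/-- `E₂ = (K₂ ∩ Y) N_{K₂}(S)` -/
def E₂ (S R₁ : Subgroup G) : Subgroup G := (K₂ S R₁ ⊓ YS S) ⊔ (K₂ S R₁ ⊓ normalizer (S : Set G))

/-- `U₁ = ⟨Z^{K₁}⟩` -/
def U₁ (S : Subgroup G) (e : G) : Subgroup G := zl S (K₁ e)

/-- `W₂ = ⟨V_L^{K₂}⟩` -/
def W₂ (S R R₁ : Subgroup G) : Subgroup G := NoFF.Basic.V (zl S (LL S R)) (K₂ S R₁)

/-- `N_R = ⟨V_L^{C_G(R₁)}⟩` -/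
def NR (S R R₁ : Subgroup G) : Subgroup G := NoFF.Basic.V (zl S (LL S R)) (centralizer (R₁ : Set G))

/-- `Q_W = O₂(C_G(W))` -/
def QW (W : Subgroup G) : Subgroup G := o2 (centralizer (W : Set G))

/-! ### The frame -/

/-- **The structure of `V*`.** -/
structure Str [Finite G] (S : Sylow 2 G) (R R₁ W X : Subgroup G) (e : G) : Prop where
  Rle : R₁ ≤ R
  Rys : YS (S : Subgroup G) ≤ normalizer (R₁ : Set G)
  RnS : normalizer ((S : Subgroup G) : Set G) ≤ normalizer (R₁ : Set G)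
  Rne : R₁ ≠ ⊥
  Wle : W ≤ zl (S : Subgroup G) (YS (S : Subgroup G))
  Wys : YS (S : Subgroup G) ≤ normalizer (W : Set G)
  WnS : normalizer ((S : Subgroup G) : Set G) ≤ normalizer (W : Set G)
  XW : X ≤ W
  XL : LL (S : Subgroup G) R ≤ normalizer (X : Set G)
  XnS : normalizer ((S : Subgroup G) : Set G) ≤ normalizer (X : Set G)
  ez : e ∈ zc (S : Subgroup G)
  eX : e ∈ X
  e1 : e ≠ 1
  /-- `Y = C_Y(R) C_Y(e)` -/
  tr : YS (S : Subgroup G) ≤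
    (YS (S : Subgroup G) ⊓ centralizer (R : Set G)) ⊔ (YS (S : Subgroup G) ⊓ centralizer ({e} : Set G))
  spl : X ⊓ R = ⊥
  /-- the odd elements `d` which fix the blocks and commute with `C_S(R)` on `[W, d]` are trivial on `W` -/
  bad : ∀ d : G, Odd (orderOf d) → d ∈ normalizer (YS (S : Subgroup G) : Set G) → d * e = e * d →
    (∀ j ∈ (S : Subgroup G) ⊓ centralizer (R : Set G),
      d * j * d⁻¹ ∈ ((S : Subgroup G) ⊓ centralizer (R : Set G)) ⊔ centralizer (W : Set G)) →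
    (∀ j ∈ (S : Subgroup G) ⊓ centralizer (R : Set G), ∀ w ∈ W,
      Commute (j * d * j⁻¹ * d⁻¹) (d * w * d⁻¹ * w⁻¹)) → d ∈ centralizer (W : Set G)
  /-- split case, or (N0) -/
  alt : X = W ∨ ((S : Subgroup G) ⊓ centralizer (X : Set G) ≤ centralizer (R₁ : Set G) ∧ R₁ ≤ W)

/-- **The frame.** -/
structure Fr [Finite G] (S : Sylow 2 G) (Z₀ R R₁ W X : Subgroup G) (e : G) : Prop where
  frm : Frm S Z₀ R
  lowL : zl (S : Subgroup G) (LL (S : Subgroup G) R) ≤ o2 (CZ (S : Subgroup G))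
  str : Str S R R₁ W X e

/-! ### The two sides -/

/-- **The data of the two sides**: `Side.TwoD` without `NB`; `QW` is `E₂`-invariant and contains the common members. -/
structure TwoQ (O D K₁ K₂ E₁ E₂ U₁ W₂ NR QW : Subgroup G) : Prop where
  OD : O ≤ D
  DO : D ≤ normalizer (O : Set G)
  D1 : D ≤ K₁
  D2 : D ≤ K₂
  e1 : E₁ ≤ K₁
  g1 : K₁ ≤ D ⊔ E₁
  e2 : E₂ ≤ K₂
  g2 : K₂ ≤ (K₁ ⊓ K₂) ⊔ E₂
  el1 : IsElementaryAbelian 2 U₁
  el2 : IsElementaryAbelian 2 W₂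
  UO : U₁ ≤ O
  WO : W₂ ≤ O
  KU : K₁ ≤ normalizer (U₁ : Set G)
  KW : K₂ ≤ normalizer (W₂ : Set G)
  q1 : K₁ ≤ normalizer ((O ⊓ centralizer (U₁ : Set G) : Subgroup G) : Set G)
  q2 : K₂ ≤ normalizer ((O ⊓ centralizer (W₂ : Set G) : Subgroup G) : Set G)
  core1 : ∀ R : Subgroup G, R ≤ O → K₁ ≤ normalizer (R : Set G) → R ≤ centralizer (U₁ : Set G)
  no1 : NoOn O U₁
  no2 : NoOn O W₂
  RW : NR ≤ W₂
  ER : E₁ ≤ normalizer (NR : Set G)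
  noR : ∀ A ∈ AA (O ⊓ centralizer (U₁ : Set G)),
    (centralizer (NR : Set G)).relIndex A ≤ (centralizer (A : Set G)).relIndex NR
  EQ : E₂ ≤ normalizer (QW : Set G)
  AQ : ∀ A ∈ AA (O ⊓ centralizer (U₁ : Set G)), A ∈ AA (O ⊓ centralizer (W₂ : Set G)) → A ≤ QW
  nonloc : ∀ R : Subgroup G, R ≤ O → K₁ ≤ normalizer (R : Set G) → K₂ ≤ normalizer (R : Set G) → R = ⊥
  ne : U₁ ≠ ⊥

/-- The main theorem on `TwoQ` (socket; helper652). -/
def TwoQMain : Prop :=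
  ∀ (G : Type u) [Group G] [Finite G] (O D K₁ K₂ E₁ E₂ U₁ W₂ NR QW : Subgroup G),
    TwoQ O D K₁ K₂ E₁ E₂ U₁ W₂ NR QW →
    (∃ A ∈ AA (O ⊓ centralizer (U₁ : Set G)), A ∈ AA O ∧ U₁ ≤ A ∧
      ¬ A ⊓ centralizer (NR : Set G) ≤ centralizer (W₂ : Set G) ∧
      (centralizer (W₂ : Set G)).relIndex (A ⊓ centralizer (NR : Set G) : Subgroup G) =
        (centralizer ((A ⊓ centralizer (NR : Set G) : Subgroup G) : Set G)).relIndex W₂) ∨
    (∃ X₁ : Subgroup G, X₁ = (⨆ k : K₁, cj (k : G) W₂) ⊔ U₁ ∧ IsElementaryAbelian 2 X₁ ∧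
      K₁ ≤ normalizer (X₁ : Set G) ∧ X₁ ≤ O ∧ X₁ ≤ centralizer (U₁ : Set G) ∧ X₁ ≤ centralizer (W₂ : Set G) ∧
      ∃ F ∈ AA (O ⊓ centralizer (W₂ : Set G)), F ∈ AA O ∧ W₂ ≤ F ∧ F ≤ QW ∧
        F ⊓ centralizer (U₁ : Set G) ≤ centralizer (X₁ : Set G) ∧ ¬ F ≤ centralizer (U₁ : Set G) ∧
        (centralizer (X₁ : Set G)).relIndex F = (centralizer (F : Set G)).relIndex X₁)

/-! ### The sockets -/

section sockets

/-- the instance of `TwoQ` -/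
def TwoEOf : Prop :=
  ∀ (G : Type u) [Group G] [Finite G] (S : Sylow 2 G) (Z₀ R R₁ W X : Subgroup G) (e : G), Fr S Z₀ R R₁ W X e →
    TwoQ (o2 (CZ (S : Subgroup G))) (CZ (S : Subgroup G)) (K₁ e) (K₂ (S : Subgroup G) R₁) (E₁ (S : Subgroup G) e)
      (E₂ (S : Subgroup G) R₁) (U₁ (S : Subgroup G) e) (W₂ (S : Subgroup G) R R₁) (NR (S : Subgroup G) R R₁) (QW W)

/-- (alpha): `F = C_A(N_R)` is not exact on `W₂`. -/
def AlphaE : Prop :=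
  ∀ (G : Type u) [Group G] [Finite G] (S : Sylow 2 G) (Z₀ R R₁ W X : Subgroup G) (e : G), Fr S Z₀ R R₁ W X e →
    TwoQ (o2 (CZ (S : Subgroup G))) (CZ (S : Subgroup G)) (K₁ e) (K₂ (S : Subgroup G) R₁) (E₁ (S : Subgroup G) e)
      (E₂ (S : Subgroup G) R₁) (U₁ (S : Subgroup G) e) (W₂ (S : Subgroup G) R R₁) (NR (S : Subgroup G) R R₁)
      (QW W) →
    ∀ A ∈ AA (o2 (CZ (S : Subgroup G)) ⊓ centralizer (U₁ (S : Subgroup G) e : Set G)),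
      A ∈ AA (o2 (CZ (S : Subgroup G))) → U₁ (S : Subgroup G) e ≤ A →
      ¬ A ⊓ centralizer (NR (S : Subgroup G) R R₁ : Set G) ≤ centralizer (W₂ (S : Subgroup G) R R₁ : Set G) →
      (centralizer (W₂ (S : Subgroup G) R R₁ : Set G)).relIndex
          (A ⊓ centralizer (NR (S : Subgroup G) R R₁ : Set G) : Subgroup G) =
        (centralizer ((A ⊓ centralizer (NR (S : Subgroup G) R R₁ : Set G) : Subgroup G) : Set G)).relIndex
          (W₂ (S : Subgroup G) R R₁) → False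

/-- (beta): `F` is not exact on `X₁ = ⟨W₂^{K₁}⟩ U₁`. -/
def BetaE : Prop :=
  ∀ (G : Type u) [Group G] [Finite G] (S : Sylow 2 G) (Z₀ R R₁ W X : Subgroup G) (e : G), Fr S Z₀ R R₁ W X e →
    TwoQ (o2 (CZ (S : Subgroup G))) (CZ (S : Subgroup G)) (K₁ e) (K₂ (S : Subgroup G) R₁) (E₁ (S : Subgroup G) e)
      (E₂ (S : Subgroup G) R₁) (U₁ (S : Subgroup G) e) (W₂ (S : Subgroup G) R R₁) (NR (S : Subgroup G) R R₁)
      (QW W) →
    ∀ X₁ : Subgroup G,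
      X₁ = (⨆ k : K₁ e, cj (k : G) (W₂ (S : Subgroup G) R R₁)) ⊔ U₁ (S : Subgroup G) e →
      IsElementaryAbelian 2 X₁ → K₁ e ≤ normalizer (X₁ : Set G) → X₁ ≤ o2 (CZ (S : Subgroup G)) →
      X₁ ≤ centralizer (U₁ (S : Subgroup G) e : Set G) → X₁ ≤ centralizer (W₂ (S : Subgroup G) R R₁ : Set G) →
    ∀ F ∈ AA (o2 (CZ (S : Subgroup G)) ⊓ centralizer (W₂ (S : Subgroup G) R R₁ : Set G)),
      F ∈ AA (o2 (CZ (S : Subgroup G))) → W₂ (S : Subgroup G) R R₁ ≤ F → F ≤ QW W →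
      F ⊓ centralizer (U₁ (S : Subgroup G) e : Set G) ≤ centralizer (X₁ : Set G) →
      ¬ F ≤ centralizer (U₁ (S : Subgroup G) e : Set G) →
      (centralizer (X₁ : Set G)).relIndex F = (centralizer (F : Set G)).relIndex X₁ → False

/-- some element of `S` is a transvection on `V*`. -/
def TvS (S : Subgroup G) : Prop :=
  ∃ s ∈ S, (centralizer ({s} : Set G)).relIndex (zl S (YS S)) = 2

/-- existence of `Str` if `S` contains a transvection on `V*` -/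
def StrTv : Prop :=
  ∀ (G : Type u) [Group G] [Finite G] (S : Sylow 2 G) (Z₀ R : Subgroup G), RBF S → Frm S Z₀ R →
    TvS (S : Subgroup G) → ∃ (R₁ W X : Subgroup G) (e : G), Str S R R₁ W X e

/-- existence of `Str` otherwise -/
def StrQ : Prop :=
  ∀ (G : Type u) [Group G] [Finite G] (S : Sylow 2 G) (Z₀ R : Subgroup G), RBF S → Frm S Z₀ R →
    ¬ TvS (S : Subgroup G) → ∃ (R₁ W X : Subgroup G) (e : G), Str S R R₁ W X e

end sockets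

/-- the frame `Frm` from box R -/
theorem frm_of_rbf [Finite G] {S : Sylow 2 G} (h : RBF S) (hR : RR (S : Subgroup G) ≠ ⊥) :
    Frm S (RR (S : Subgroup G) ⊓ zc (S : Subgroup G)) (RR (S : Subgroup G)) :=
  frm_of h.toRB (RLow.rr_le h.ctx h.full h.data h.notA h.ex) hR

/-- `V_L ≤ O` -/
theorem lowL_of_rbf [Finite G] {S : Sylow 2 G} (h : RBF S) (hR : RR (S : Subgroup G) ≠ ⊥) :
    zl (S : Subgroup G) (LL (S : Subgroup G) (RR (S : Subgroup G))) ≤ o2 (CZ (S : Subgroup G)) :=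
  RLow.zl_LL_le h.ctx h.full h.data h.notA h.ex hR

/-- **The two-centre theorem.** -/
theorem Fr.false_of (hm : TwoQMain.{u}) (hd : TwoEOf.{u}) (ha : AlphaE.{u}) (hb : BetaE.{u}) [Finite G]
    {S : Sylow 2 G} {Z₀ R R₁ W X : Subgroup G} {e : G} (h : Fr S Z₀ R R₁ W X e) : False := by
  have D := hd G S Z₀ R R₁ W X e h
  rcases hm G _ _ _ _ _ _ _ _ _ _ D with ⟨A, hA, hAO, hUA, hmv, hex⟩ |
    ⟨X₁, hX, hel, hn, hO, hU, hW, F, hF, hFO, hWF, hFQ, hc, hmv, hex⟩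
  · exact ha G S Z₀ R R₁ W X e h D A hA hAO hUA hmv hex
  · exact hb G S Z₀ R R₁ W X e h D X₁ hX hel hn hO hU hW F hF hFO hWF hFQ hc hmv hex

/-- **[R-z] of box R** (any class). -/
theorem brr_of (hm : TwoQMain.{u}) (hd : TwoEOf.{u}) (ha : AlphaE.{u}) (hb : BetaE.{u}) (h2 : StrTv.{u})
    (h4 : StrQ.{u}) [Finite G] {S : Sylow 2 G} (hB : RBF S) (hR : RR (S : Subgroup G) ≠ ⊥) : False := by
  have F := frm_of_rbf hB hR
  have L := lowL_of_rbf hB hR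
  by_cases ht : TvS (S : Subgroup G)
  · obtain ⟨R₁, W, X, e, st⟩ := h2 G S _ _ hB F ht
    exact Fr.false_of hm hd ha hb ⟨F, L, st⟩
  · obtain ⟨R₁, W, X, e, st⟩ := h4 G S _ _ hB F ht
    exact Fr.false_of hm hd ha hb ⟨F, L, st⟩

/-- **The socket `BrTOf K FBF`.** -/
theorem brT_of {K : Cls.{u}} (hm : TwoQMain.{u}) (hd : TwoEOf.{u}) (ha : AlphaE.{u}) (hb : BetaE.{u})
    (h2 : StrTv.{u}) (h4 : StrQ.{u}) : BrTOf K FBF.{u} :=
  fun _ _ _ _ _ hB hR _ => (brr_of hm hd ha hb h2 h4 hB hR).elim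

end Cfsg.Agent.Omega.NOThreeL.RZ.TwoE
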