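import Cfsg.Agent.Omega.NOThreeL.RZ.TwoC.Ab
import Cfsg.Agent.Omega.NOThreeL.EndFive
import Cfsg.Agent.Lib.CoprimeAbelian

/-!
# [R-z], nonsplit natural blocks: the block-free part of the frame `FrN` (bb #26244, #26560, #26831)

`E` normal in `Y`, `S ≤ Y`, `U` elementary abelian, normalised by `Y`, `S₁ = S ∩ E`:
`XE S E U = [C_U(S₁), N_E(S₁)]` (the product of the torus parts of the lines).

* `XE_inf` : `XE ∩ C(E) = 1`;
* `norm_XE` : `Y ∩ N(S₁)` normalises `XE`; `nS_XE`, `S_XE`;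
* **`sepX`** : `x, x' ∈ XE`, `y ∈ Y`, `x'⁻¹ x^y ∈ C(E)` implies `x^y = x'`;
* `coset_fix` : `h ∈ E`, `x ∈ U ∩ C(S₁)`, `x⁻¹ x^h ∈ C(E)` implies `x^h = x`;
* **`tr_of`** : if every `n ∈ Y ∩ N(S₁)` fixes `e` modulo `C(E)` and `E`, then `Y = C_Y(R) C_Y(e)` for `R ≤ C(E)`;
* `par_XE` : `P ≤ Y`, `S ∩ C(R) ≤ O₂(P) ≤ S`, `R ≤ C(E)`: `P` normalises `XE`.
-/

set_option autoImplicit false
set_option linter.unusedSectionVars false

namespace Cfsg.Agent.Omega.NOThreeL.RZ.TwoE.FrNFree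

open Subgroup Cfsg
open Cfsg.Agent.ZN (o2 zc zl jj)
open Cfsg.Agent.ZN.ChoiceBase hiding mem_zc
open Cfsg.Agent.ZN.ChoiceSit (Syl syl_conj exists_syl)
open Cfsg.Agent.Omega.NOThreeL.EndFive (syl_inf frattini)
open Cfsg.Agent.MinSimple.VModule (le_normalizer_o2 o2_le)
open scoped commutatorElement

universe u

variable {G : Type u} [Group G]

/-- `[C_U(S ∩ E), N_E(S ∩ E)]` -/
def XE (S E U : Subgroup G) : Subgroup G :=
  ⁅U ⊓ centralizer ((S ⊓ E : Subgroup G) : Set G), E ⊓ normalizer ((S ⊓ E : Subgroup G) : Set G)⁆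

/-- `C_[W,T](T) = 1` if a Sylow 2-subgroup of `T` is normal in `T` and centralises the 2-group `W`. -/
theorem comm_inf_cent [Finite G] {W T Q : Subgroup G} (hWc : W ≤ centralizer (W : Set G)) (hW2 : IsPGroup 2 W)
    (hTW : T ≤ normalizer (W : Set G)) (hQ : Syl Q T) (hTQ : T ≤ normalizer (Q : Set G))
    (hQW : Q ≤ centralizer (W : Set G)) : ⁅W, T⁆ ⊓ centralizer (T : Set G) = ⊥ := by
  have h2 : Fact (Nat.Prime 2) := ⟨Nat.prime_two⟩
  have hn : (Q.subgroupOf T).Normal := by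
    refine ⟨fun x hx g => ?_⟩
    rw [mem_subgroupOf] at hx ⊢
    exact (mem_normalizer_iff.1 (hTQ g.2) _).1 hx
  have hc1 : Nat.card (Q.subgroupOf T) = Nat.card Q := Nat.card_congr (Subgroup.subgroupOfEquivOfLe hQ.1).toEquiv
  have hidx : ¬ 2 ∣ (Q.subgroupOf T).index := Cfsg.Agent.ZN.ChoiceSit.syl_not_dvd hQ
  have hc2 : Nat.Coprime 2 (Q.subgroupOf T).index := (Nat.Prime.coprime_iff_not_dvd Nat.prime_two).2 hidx
  have hcop : Nat.Coprime (Nat.card (Q.subgroupOf T)) (Q.subgroupOf T).index := by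
    rw [hc1]
    obtain ⟨n, hn'⟩ := IsPGroup.iff_card.1 hQ.2.1
    rw [hn']
    exact Nat.Coprime.pow_left n hc2
  obtain ⟨H', hH'⟩ := Subgroup.exists_right_complement'_of_coprime hcop
  have hcard : Nat.card H' = (Q.subgroupOf T).index := hH'.symm.index_eq_card.symm
  set H : Subgroup G := H'.map T.subtype with hH
  have hHT : H ≤ T := by
    rintro _ ⟨x, -, rfl⟩
    exact x.2
  have hcardH : Nat.card H = (Q.subgroupOf T).index := by
    rw [hH, Nat.card_congr (H'.equivMapOfInjective T.subtype T.subtype_injective).toEquiv.symm, hcard]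
  have hdec : ∀ t ∈ T, ∃ q ∈ Q, ∃ h ∈ H, q * h = t := by
    intro t ht
    obtain ⟨⟨a, b⟩, hab⟩ := hH'.surjective ⟨t, ht⟩
    refine ⟨(a : T), mem_subgroupOf.1 a.2, (b : T), ⟨b, b.2, rfl⟩, ?_⟩
    exact congrArg (fun x : T => (x : G)) hab
  have hle : ⁅W, T⁆ ≤ ⁅W, H⁆ := by
    rw [commutator_le]
    intro w hw t ht
    obtain ⟨q, hq, h, hh, rfl⟩ := hdec t ht
    have h3 : h * w⁻¹ * h⁻¹ ∈ W := (mem_normalizer_iff.1 (hTW (hHT hh)) _).1 (inv_mem hw)
    have h4 : w * (h * w⁻¹ * h⁻¹) ∈ W := mul_mem hw h3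
    have e1 : q * (w * (h * w⁻¹ * h⁻¹)) = (w * (h * w⁻¹ * h⁻¹)) * q := ((mem_centralizer_iff.1 (hQW hq)) _ h4).symm
    have e2 : q * w = w * q := ((mem_centralizer_iff.1 (hQW hq)) _ hw).symm
    have e3 : ⁅w, q * h⁆ = ⁅w, h⁆ := by
      rw [commutatorElement_def, commutatorElement_def, mul_inv_rev]
      calc w * (q * h) * w⁻¹ * (h⁻¹ * q⁻¹) = (w * q) * (h * w⁻¹ * h⁻¹) * q⁻¹ := by group
        _ = (q * w) * (h * w⁻¹ * h⁻¹) * q⁻¹ := by rw [e2]
        _ = (q * (w * (h * w⁻¹ * h⁻¹))) * q⁻¹ := by group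
        _ = ((w * (h * w⁻¹ * h⁻¹)) * q) * q⁻¹ := by rw [e1]
        _ = w * h * w⁻¹ * h⁻¹ := by group
    rw [e3]
    exact commutator_mem_commutator hw hh
  have hcopH : (Nat.card H).Coprime (Nat.card W) := by
    rw [hcardH]
    obtain ⟨n, hn'⟩ := IsPGroup.iff_card.1 hW2
    rw [hn']
    exact (Nat.Coprime.pow_left n hc2).symm
  have hWW : ⁅W, H⁆ ≤ W := by
    rw [commutator_le]
    intro w hw h hh
    rw [commutatorElement_def]
    have h3 : h * w⁻¹ * h⁻¹ ∈ W := (mem_normalizer_iff.1 (hTW (hHT hh)) _).1 (inv_mem hw)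
    have e : w * h * w⁻¹ * h⁻¹ = w * (h * w⁻¹ * h⁻¹) := by group
    rw [e]
    exact mul_mem hw h3
  have key := Cfsg.Agent.Lib.CoprimeAbelian.inf_commutator_eq_bot H W
    (fun x hx y hy => (mem_centralizer_iff.1 (hWc hy) x hx)) (hHT.trans hTW) hcopH
  rw [eq_bot_iff, ← key]
  rintro x ⟨h1, h3⟩
  exact ⟨⟨hWW (hle h1), centralizer_le hHT h3⟩, hle h1⟩

section fin

variable [Finite G] {S : Sylow 2 G} {Y E U : Subgroup G}

/-- an element normalising `S₁`, `E`, `U` normalises `XE` -/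
theorem mem_norm_XE {n : G} (h1 : n ∈ normalizer (((S : Subgroup G) ⊓ E : Subgroup G) : Set G))
    (h2 : n ∈ normalizer (E : Set G)) (h3 : n ∈ normalizer (U : Set G)) :
    n ∈ normalizer (XE (S : Subgroup G) E U : Set G) := by
  rw [mem_normalizer_iff_cj, XE, cj, Subgroup.map_commutator, ← cj, ← cj, cj_inf, cj_inf, cj_centralizer,
    mem_normalizer_iff_cj.1 h1, mem_normalizer_iff_cj.1 h2, mem_normalizer_iff_cj.1 h3]
  congr 2
  have h4 : n ∈ normalizer ((normalizer (((S : Subgroup G) ⊓ E : Subgroup G) : Set G) : Subgroup G) : Set G) :=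
    le_normalizer h1
  rw [mem_normalizer_iff_cj.1 h4]

theorem norm_XE (nE : Y ≤ normalizer (E : Set G)) (nU : Y ≤ normalizer (U : Set G)) :
    Y ⊓ normalizer (((S : Subgroup G) ⊓ E : Subgroup G) : Set G) ≤ normalizer (XE (S : Subgroup G) E U : Set G) :=
  fun _ hn => mem_norm_XE hn.2 (nE hn.1) (nU hn.1)

theorem nS_XE {K : Subgroup G} (nS : K ≤ normalizer ((S : Subgroup G) : Set G)) (nE : K ≤ normalizer (E : Set G))
    (nU : K ≤ normalizer (U : Set G)) : K ≤ normalizer (XE (S : Subgroup G) E U : Set G) := by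
  intro n hn
  refine mem_norm_XE ?_ (nE hn) (nU hn)
  rw [mem_normalizer_iff_cj, cj_inf, mem_normalizer_iff_cj.1 (nS hn), mem_normalizer_iff_cj.1 (nE hn)]

theorem S_XE (SY : (S : Subgroup G) ≤ Y) (nE : Y ≤ normalizer (E : Set G)) (nU : Y ≤ normalizer (U : Set G)) :
    (S : Subgroup G) ≤ normalizer (XE (S : Subgroup G) E U : Set G) :=
  nS_XE le_normalizer (SY.trans nE) (SY.trans nU)

theorem NE_norm (EY : E ≤ Y) (nU : Y ≤ normalizer (U : Set G)) :
    E ⊓ normalizer (((S : Subgroup G) ⊓ E : Subgroup G) : Set G) ≤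
      normalizer ((U ⊓ centralizer (((S : Subgroup G) ⊓ E : Subgroup G) : Set G) : Subgroup G) : Set G) := by
  intro n hn
  rw [mem_normalizer_iff_cj, cj_inf, cj_centralizer, mem_normalizer_iff_cj.1 hn.2,
    mem_normalizer_iff_cj.1 (nU (EY hn.1))]

theorem XE_le (EY : E ≤ Y) (nU : Y ≤ normalizer (U : Set G)) :
    XE (S : Subgroup G) E U ≤ U ⊓ centralizer (((S : Subgroup G) ⊓ E : Subgroup G) : Set G) := by
  rw [XE, commutator_le]
  intro w hw t ht
  rw [commutatorElement_def]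
  have h3 : t * w⁻¹ * t⁻¹ ∈ U ⊓ centralizer (((S : Subgroup G) ⊓ E : Subgroup G) : Set G) :=
    (mem_normalizer_iff.1 (NE_norm EY nU ht) _).1 (inv_mem hw)
  have e : w * t * w⁻¹ * t⁻¹ = w * (t * w⁻¹ * t⁻¹) := by group
  rw [e]
  exact mul_mem hw h3

theorem XE_le_U (EY : E ≤ Y) (nU : Y ≤ normalizer (U : Set G)) : XE (S : Subgroup G) E U ≤ U :=
  (XE_le EY nU).trans inf_le_left

/-- `S ∩ E` is Sylow in `N_E(S ∩ E)` -/
theorem syl_N (SE : (S : Subgroup G) ≤ normalizer (E : Set G)) :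
    Syl ((S : Subgroup G) ⊓ E) (E ⊓ normalizer (((S : Subgroup G) ⊓ E : Subgroup G) : Set G)) := by
  have h1 := syl_inf (S := S) SE
  exact ⟨le_inf inf_le_right le_normalizer, h1.2.1, fun Q hQ hp hle => h1.2.2 Q (hQ.trans inf_le_left) hp hle⟩

/-- `XE ∩ C(E) = 1` -/
theorem XE_inf (SY : (S : Subgroup G) ≤ Y) (EY : E ≤ Y) (nE : Y ≤ normalizer (E : Set G))
    (nU : Y ≤ normalizer (U : Set G)) (Uc : U ≤ centralizer (U : Set G)) (U2 : IsPGroup 2 U) :
    XE (S : Subgroup G) E U ⊓ centralizer (E : Set G) = ⊥ := by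
  have h1 := comm_inf_cent (W := U ⊓ centralizer (((S : Subgroup G) ⊓ E : Subgroup G) : Set G))
    (inf_le_left.trans (Uc.trans (centralizer_le inf_le_left))) (U2.to_le inf_le_left) (NE_norm EY nU)
    (syl_N (SY.trans nE)) inf_le_right
    (fun s hs => mem_centralizer_iff.2 fun w hw => ((mem_centralizer_iff.1 hw.2) s hs).symm)
  rw [eq_bot_iff, ← h1]
  exact inf_le_inf_left _ (centralizer_le inf_le_left)

/-- two Sylow subgroups of `E` which centralise the same vector are conjugate by an element of `E` which centralises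
it -/
theorem exists_conj (SE : (S : Subgroup G) ≤ normalizer (E : Set G)) {z y : G} (hy : y ∈ normalizer (E : Set G))
    (h1 : z ∈ centralizer (((S : Subgroup G) ⊓ E : Subgroup G) : Set G))
    (h2 : z ∈ centralizer ((cj y ((S : Subgroup G) ⊓ E) : Subgroup G) : Set G)) :
    ∃ f ∈ E, f * z = z * f ∧ f * y ∈ normalizer (((S : Subgroup G) ⊓ E : Subgroup G) : Set G) := by
  have hE := syl_inf (S := S) SE
  have hc : cj y E = E := mem_normalizer_iff_cj.1 hy
  have hF1 : Syl ((S : Subgroup G) ⊓ E) (E ⊓ centralizer ({z} : Set G)) := by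
    refine ⟨le_inf inf_le_right fun s hs => ?_, hE.2.1, fun Q hQ hp hle => hE.2.2 Q (hQ.trans inf_le_left) hp hle⟩
    rw [mem_centralizer_singleton_iff]
    exact (mem_centralizer_iff.1 h1) s hs
  have hF2 : Syl (cj y ((S : Subgroup G) ⊓ E)) (E ⊓ centralizer ({z} : Set G)) := by
    refine ⟨le_inf ((cj_mono y inf_le_right).trans hc.le) fun s hs => ?_, isPGroup_cj _ hE.2.1,
      fun Q hQ hp hle => ?_⟩
    · rw [mem_centralizer_singleton_iff]
      exact (mem_centralizer_iff.1 h2) s hs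
    · refine (eq_of_le_of_card_ge hle ?_).symm
      obtain ⟨T, hT, hQT⟩ := exists_syl hp (hQ.trans inf_le_left)
      obtain ⟨x, -, hxT⟩ := syl_conj hT hE
      have e1 : Nat.card T = Nat.card ((S : Subgroup G) ⊓ E : Subgroup G) := by rw [← hxT, card_cj]
      rw [card_cj, ← e1]
      exact card_le_of_le hQT
  obtain ⟨f, hf, h3⟩ := syl_conj hF2 hF1
  refine ⟨f, hf.1, mem_centralizer_singleton_iff.1 hf.2, ?_⟩
  rw [mem_normalizer_iff_cj, ← cj_cj, h3]

/-- **(sepX)** -/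
theorem sepX (SY : (S : Subgroup G) ≤ Y) (EY : E ≤ Y) (nE : Y ≤ normalizer (E : Set G))
    (nU : Y ≤ normalizer (U : Set G)) (Uc : U ≤ centralizer (U : Set G)) (U2 : IsPGroup 2 U) {x x' y : G}
    (hx : x ∈ XE (S : Subgroup G) E U) (hx' : x' ∈ XE (S : Subgroup G) E U) (hy : y ∈ Y)
    (h : x'⁻¹ * (y * x * y⁻¹) ∈ centralizer (E : Set G)) : y * x * y⁻¹ = x' := by
  set z := y * x * y⁻¹ with hz
  have hxc := (XE_le EY nU hx).2
  have hxc' := (XE_le EY nU hx').2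
  have h1 : z ∈ centralizer (((S : Subgroup G) ⊓ E : Subgroup G) : Set G) := by
    have e : z = x' * (x'⁻¹ * z) := by group
    rw [e]
    exact mul_mem hxc' (centralizer_le inf_le_right h)
  have h2 : z ∈ centralizer ((cj y ((S : Subgroup G) ⊓ E) : Subgroup G) : Set G) := by
    rw [mem_centralizer_iff]
    rintro _ ⟨s, hs, rfl⟩
    have h3 := (mem_centralizer_iff.1 hxc) s hs
    change (y * s * y⁻¹) * (y * x * y⁻¹) = (y * x * y⁻¹) * (y * s * y⁻¹)
    calc (y * s * y⁻¹) * (y * x * y⁻¹) = y * (s * x) * y⁻¹ := by group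
      _ = y * (x * s) * y⁻¹ := by rw [h3]
      _ = _ := by group
  obtain ⟨f, hf, hfz, hfy⟩ := exists_conj (SY.trans nE) (nE hy) h1 h2
  have h4 : (f * y) ∈ normalizer (XE (S : Subgroup G) E U : Set G) :=
    norm_XE nE nU ⟨mul_mem (EY hf) hy, hfy⟩
  have h5 : z ∈ XE (S : Subgroup G) E U := by
    have h6 := (mem_normalizer_iff.1 h4 x).1 hx
    have e : f * y * x * (f * y)⁻¹ = z := by
      calc f * y * x * (f * y)⁻¹ = f * (y * x * y⁻¹) * f⁻¹ := by group
        _ = f * z * f⁻¹ := by rw [hz]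
        _ = z * f * f⁻¹ := by rw [hfz]
        _ = z := by group
    rwa [e] at h6
  have h7 : x'⁻¹ * z ∈ XE (S : Subgroup G) E U ⊓ centralizer (E : Set G) :=
    ⟨Subgroup.mul_mem _ (Subgroup.inv_mem _ hx') h5, h⟩
  rw [XE_inf SY EY nE nU Uc U2, mem_bot] at h7
  exact (inv_mul_eq_one.1 h7).symm

/-- a coset of `C(E)` contains at most one element of the orbit `x^E` -/
theorem coset_fix (SY : (S : Subgroup G) ≤ Y) (EY : E ≤ Y) (nE : Y ≤ normalizer (E : Set G))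
    (nU : Y ≤ normalizer (U : Set G)) (Uc : U ≤ centralizer (U : Set G)) (U2 : IsPGroup 2 U) {x y : G}
    (hx : x ∈ U ⊓ centralizer (((S : Subgroup G) ⊓ E : Subgroup G) : Set G)) (hy : y ∈ E)
    (h : x⁻¹ * (y * x * y⁻¹) ∈ centralizer (E : Set G)) : y * x * y⁻¹ = x := by
  set z := y * x * y⁻¹ with hz
  have h1 : z ∈ centralizer (((S : Subgroup G) ⊓ E : Subgroup G) : Set G) := by
    have e : z = x * (x⁻¹ * z) := by group
    rw [e]
    exact mul_mem hx.2 (centralizer_le inf_le_right h)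
  have h2 : z ∈ centralizer ((cj y ((S : Subgroup G) ⊓ E) : Subgroup G) : Set G) := by
    rw [mem_centralizer_iff]
    rintro _ ⟨s, hs, rfl⟩
    have h3 := (mem_centralizer_iff.1 hx.2) s hs
    change (y * s * y⁻¹) * (y * x * y⁻¹) = (y * x * y⁻¹) * (y * s * y⁻¹)
    calc (y * s * y⁻¹) * (y * x * y⁻¹) = y * (s * x) * y⁻¹ := by group
      _ = y * (x * s) * y⁻¹ := by rw [h3]
      _ = _ := by group
  obtain ⟨f, hf, hfz, hfy⟩ := exists_conj (SY.trans nE) (nE (EY hy)) h1 h2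
  have h4 : x⁻¹ * z ∈ XE (S : Subgroup G) E U := by
    have e : f * y * x * (f * y)⁻¹ = z := by
      calc f * y * x * (f * y)⁻¹ = f * (y * x * y⁻¹) * f⁻¹ := by group
        _ = f * z * f⁻¹ := by rw [hz]
        _ = z * f * f⁻¹ := by rw [hfz]
        _ = z := by group
    have h5 : ⁅x⁻¹, f * y⁆ ∈ XE (S : Subgroup G) E U :=
      commutator_mem_commutator (Subgroup.inv_mem _ hx) ⟨E.mul_mem hf hy, hfy⟩
    rw [commutatorElement_def, inv_inv] at h5
    rwa [show x⁻¹ * (f * y) * x * (f * y)⁻¹ = x⁻¹ * (f * y * x * (f * y)⁻¹) by group, e] at h5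
  have h7 : x⁻¹ * z ∈ XE (S : Subgroup G) E U ⊓ centralizer (E : Set G) := ⟨h4, h⟩
  rw [XE_inf SY EY nE nU Uc U2, mem_bot] at h7
  exact (inv_mul_eq_one.1 h7).symm

/-- **`Y = E C_Y(e)`** if the torus is transitive modulo `C(E)` -/
theorem tr_aux (SY : (S : Subgroup G) ≤ Y) (EY : E ≤ Y) (nE : Y ≤ normalizer (E : Set G))
    (nU : Y ≤ normalizer (U : Set G)) (Uc : U ≤ centralizer (U : Set G)) (U2 : IsPGroup 2 U) {e : G}
    (he : e ∈ XE (S : Subgroup G) E U)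
    (ht : ∀ n ∈ Y ⊓ normalizer (((S : Subgroup G) ⊓ E : Subgroup G) : Set G), ∃ t ∈ E,
      e⁻¹ * ((t * n) * e * (t * n)⁻¹) ∈ centralizer (E : Set G)) :
    ∀ y ∈ Y, ∃ t ∈ E, (t * y) * e * (t * y)⁻¹ = e := by
  intro y hy
  obtain ⟨c, hc, h1⟩ := frattini (S := S) (SY.trans nE) (nE hy)
  have h2 : c⁻¹ * y ∈ Y := Y.mul_mem (Y.inv_mem (EY hc)) hy
  obtain ⟨t, htE, h3⟩ := ht _ ⟨h2, h1⟩
  refine ⟨t * c⁻¹, E.mul_mem htE (E.inv_mem hc), ?_⟩
  have h4 := sepX SY EY nE nU Uc U2 he he (mul_mem (EY htE) h2) h3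
  have e1 : t * c⁻¹ * y = t * (c⁻¹ * y) := by group
  rw [e1]
  exact h4

/-- **The field `tr`** -/
theorem tr_of (SY : (S : Subgroup G) ≤ Y) (EY : E ≤ Y) (nE : Y ≤ normalizer (E : Set G))
    (nU : Y ≤ normalizer (U : Set G)) (Uc : U ≤ centralizer (U : Set G)) (U2 : IsPGroup 2 U) {e : G} {R : Subgroup G}
    (he : e ∈ XE (S : Subgroup G) E U) (hR : R ≤ centralizer (E : Set G))
    (ht : ∀ n ∈ Y ⊓ normalizer (((S : Subgroup G) ⊓ E : Subgroup G) : Set G), ∃ t ∈ E,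
      e⁻¹ * ((t * n) * e * (t * n)⁻¹) ∈ centralizer (E : Set G)) :
    Y ≤ (Y ⊓ centralizer (R : Set G)) ⊔ (Y ⊓ centralizer ({e} : Set G)) := by
  intro y hy
  obtain ⟨t, htE, h1⟩ := tr_aux SY EY nE nU Uc U2 he ht y hy
  have h2 : t ∈ Y ⊓ centralizer (R : Set G) := by
    refine ⟨EY htE, mem_centralizer_iff.2 fun r hr => ?_⟩
    exact ((mem_centralizer_iff.1 (hR hr)) t htE).symm
  have h3 : t * y ∈ Y ⊓ centralizer ({e} : Set G) := by
    refine ⟨Y.mul_mem (EY htE) hy, ?_⟩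
    change t * y ∈ centralizer ({e} : Set G)
    rw [mem_centralizer_singleton_iff]
    calc t * y * e = (t * y * e * (t * y)⁻¹) * (t * y) := by group
      _ = e * (t * y) := by rw [h1]
  have e1 : y = t⁻¹ * (t * y) := by group
  rw [e1]
  exact Subgroup.mul_mem _ (mem_sup_left (Subgroup.inv_mem _ h2)) (mem_sup_right h3)

/-- `P ≤ N(S ∩ E)` -/
theorem par_norm {P R : Subgroup G} (hP : P ≤ Y) (nE : Y ≤ normalizer (E : Set G)) (hR : R ≤ centralizer (E : Set G))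
    (hPS : o2 P ≤ (S : Subgroup G)) (h : (S : Subgroup G) ⊓ centralizer (R : Set G) ≤ o2 P) :
    P ≤ normalizer (((S : Subgroup G) ⊓ E : Subgroup G) : Set G) := by
  have e : (S : Subgroup G) ⊓ E = o2 P ⊓ E := by
    refine le_antisymm (le_inf (le_trans (le_inf inf_le_left ?_) h) inf_le_right) (inf_le_inf_right _ hPS)
    intro x hx
    exact mem_centralizer_iff.2 fun r hr => ((mem_centralizer_iff.1 (hR hr)) x hx.2).symm
  rw [e]
  intro p hp
  rw [mem_normalizer_iff_cj, cj_inf, mem_normalizer_iff_cj.1 (le_normalizer_o2 P hp),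
    mem_normalizer_iff_cj.1 (nE (hP hp))]

/-- **The field `pX`** -/
theorem par_XE {P R : Subgroup G} (hP : P ≤ Y) (nE : Y ≤ normalizer (E : Set G)) (nU : Y ≤ normalizer (U : Set G))
    (hR : R ≤ centralizer (E : Set G)) (hPS : o2 P ≤ (S : Subgroup G))
    (h : (S : Subgroup G) ⊓ centralizer (R : Set G) ≤ o2 P) : P ≤ normalizer (XE (S : Subgroup G) E U : Set G) :=
  (le_inf hP (par_norm hP nE hR hPS h)).trans (norm_XE nE nU)

end fin

end Cfsg.Agent.Omega.NOThreeL.RZ.TwoE.FrNFree
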