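import Cfsg.Agent.Omega.NOThreeL.RZ.TwoE.NatE
import Cfsg.Agent.Omega.NOThreeL.RZ.TwoE.Tv
import Cfsg.Agent.Omega.NOThreeL.RZ.TwoC.EndP

/-!
# [R-z], [Nat] : the end

`F : NatF S Q N C`, `C_Z(E₁) ≠ 1`, orbits `O b` for the blocks.

* `gB` : `∏ N' b = ⟨(Z ∩ ∏ N' b)^{C_Y(Z ∩ R₀)}⟩`;
* **`false_of`** : a contradiction.
-/

set_option autoImplicit false
set_option linter.unusedSectionVars false

namespace Cfsg.Agent.Omega.NOThreeL.RZ.TwoE.NatFam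

open Subgroup Cfsg Cfsg.Agent.ZN Cfsg.Agent.Omega.MinPar Cfsg.Agent.Omega.Frame Cfsg.Agent.Omega.FrameNOFF
open Cfsg.Agent.Omega.NOThreeL.RSplit (Nrm)
open Cfsg.Agent.Omega.NOThreeL.RRed
open Cfsg.Agent.Omega.NOThreeL.RRed.Blk
open Cfsg.Agent.Omega.NOThreeL.Star (YS)
open Cfsg.Agent.Omega.NOThreeL.RTree (RB)
open Cfsg.Agent.Omega.NOThreeL.Merge (MZ isLoc_MZ)
open Cfsg.Agent.Omega.NOThreeL.RRed.Blk.TypesNat (XH ph)
open Cfsg.Agent.Omega.NOThreeL.RRed.Blk.Asm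
open Cfsg.Agent.Omega.NOThreeL.RRed.EOne (E1 E1S R1 Z1)
open Cfsg.Agent.Omega.NOThreeL.RZ.TwoC (FrE)
open Cfsg.Agent.Omega.NOThreeL.RZ.TwoC.DecE (Orbs PP)
open Cfsg.Agent.Omega.ML.Final (MLK)
open scoped Pointwise

universe u

variable {G : Type u} [Group G] [Finite G] {S : Sylow 2 G}

namespace NatF

variable {Q : Nrm (MZ (S : Subgroup G)) (zl (S : Subgroup G) (MZ (S : Subgroup G)))}
  {N C : Subgroup (XH Q) → AddSubgroup Q.Mod} (F : NatF S Q N C) {O : EB S Q → Set G}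
include F

/-- **`∏ N' b` is generated from `Z ∩ ∏ N' b`.** -/
theorem gB (hSL : (S : Subgroup G) ≤ MZ (S : Subgroup G))
    (o : Orbs (MZ (S : Subgroup G)) (fun b : EB S Q => su Q (N b)) (fun b : EB S Q => pre Q (Eg (EB S Q) N b)) O)
    (hdif : ∀ b : EB S Q, su Q (N b) ≤ closure {g | ∃ x ∈ O b, ∃ y ∈ O b, g = y * x⁻¹}) {e : G}
    (he : e ∈ PP (fun b : EB S Q => su Q (N b)) (su Q (Rs (EB S Q) C)) O) (heZ : e ∈ zc (S : Subgroup G)) :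
    (⨆ b : EB S Q, su Q (N b)) ≤ NoFF.Basic.V (zc (S : Subgroup G) ⊓ ⨆ b : EB S Q, su Q (N b))
      (MZ (S : Subgroup G) ⊓ centralizer ((zc (S : Subgroup G) ⊓ su Q (Rs (EB S Q) C) : Subgroup G) : Set G)) := by
  have hd := F.dec hSL
  refine iSup_le fun b => (hdif b).trans ?_
  rw [closure_le]
  rintro _ ⟨x, hx, y, hy, rfl⟩
  refine TwoC.FrEOf.dif_mem hd o he (fun b g hg => ?_) hx hy
  have hgK : g ∈ MZ (S : Subgroup G) ⊓
      centralizer ((zc (S : Subgroup G) ⊓ su Q (Rs (EB S Q) C) : Subgroup G) : Set G) :=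
    ⟨hd.EL b hg, centralizer_le inf_le_right (hd.ER b hg)⟩
  exact (mem_normalizer_iff.1 (RZ.le_norm_V _ _ hgK) e).1 (RZ.Z_le _ _ ⟨heZ, he.1⟩)

/-- **The end.** -/
theorem false_of (hM : MLK.{u, u}) (hR : NO3b.EndX.RedP.{u, u}) (hE : ML.Ex.Two.Ext.{u, u}) (B : RB S)
    (h1 : ¬ E1S (S : Subgroup G)) [Nonempty (EB S Q)]
    (o : Orbs (MZ (S : Subgroup G)) (fun b : EB S Q => su Q (N b)) (fun b : EB S Q => pre Q (Eg (EB S Q) N b)) O)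
    (hdif : ∀ b : EB S Q, su Q (N b) ≤ closure {g | ∃ x ∈ O b, ∃ y ∈ O b, g = y * x⁻¹}) : False := by
  have hL := isLoc_MZ B.ctx B.full B.data.noff
  have hSL := hL.le
  have hd := F.dec hSL
  obtain ⟨e, he, heS⟩ := TwoC.DecE.exists_e hd o S.isPGroup'
  have eU : e ∈ zl (S : Subgroup G) (MZ (S : Subgroup G)) := TwoC.DecE.B_le hd he.1
  have eZ : e ∈ zc (S : Subgroup G) :=
    MinSimple.VModule.mem_zc.2 ⟨EOne.VS B eU, fun s hs => (mem_centralizer_iff.1 (heS hs) e rfl).symm, F.inp.el.2 e eU⟩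
  have hne : R1 (S : Subgroup G) ⊓ zc (S : Subgroup G) ≠ ⊥ := by
    intro h0
    apply (EOne.ne_of_not B h1).1
    rw [eq_bot_iff, ← h0]
    exact le_inf (EOne.Z1_le_R1 _) (EOne.Z1_le _)
  obtain ⟨e', he', f⟩ := Tv.frE_ofR B hd o hdif (F.R1_le hSL) (EOne.YS_le_norm_R1 _) EOne.nS_R1 hne
    (fun low A hA => (F.hA hM B (F.gB hSL o hdif he eZ) low A hA).trans (centralizer_le (F.R1_le hSL))) (F.sB hSL)
  refine f.false_of hM hR hE (TwoC.BadNat.bad_nat (F.dt hSL) (F.R1_le hSL) (fun A hA => ?_) ?_ fun b => ?_)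
  · exact EOne.mx_cent hA.1 hA.2
  · intro s hs
    rw [mem_centralizer_singleton_iff]
    exact (MinSimple.VModule.mem_zc.1 f.eZ).2.1 s hs
  · obtain ⟨n, hn, hc⟩ := he'.2 b
    exact ⟨n, fun h => o.one b (h ▸ hn), hc⟩

end NatF

end Cfsg.Agent.Omega.NOThreeL.RZ.TwoE.NatFam
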