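import Cfsg.Agent.Omega.NOThreeL.RZ.TwoE.NatFam
import Cfsg.Agent.Omega.NOThreeL.RZ.TwoC.BadNat
import Cfsg.Agent.Omega.NOThreeL.RRed.EOneTr

/-!
# [R-z], [Nat] : the hypothesis `bad` of `FrE.false_of` for the family `NatF`

* `NatF.dt` : the record `BadNat.Dt`;
* `R1_le` : `R1 S ≤ R₀ = su Q (⨅ C D)`;
* **`NatF.bad`** : the hypothesis `bad` for `R = R1 S`, `B = ⨆ su Q (N b)`.
-/

set_option autoImplicit false
set_option linter.unusedSectionVars false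

namespace Cfsg.Agent.Omega.NOThreeL.RZ.TwoE.NatDt

open Subgroup Cfsg
open Cfsg.Agent.ZN (zc zl)
open Cfsg.Agent.Omega.NOThreeL.RSplit (Nrm)
open Cfsg.Agent.Omega.NOThreeL.Merge (MZ)
open Cfsg.Agent.Omega.NOThreeL.Star (YS)
open Cfsg.Agent.Omega.NOThreeL.RRed.EOne (R1 R1_le mx_cent YS_le_norm_R1)
open Cfsg.Agent.Omega.NOThreeL.RRed.Blk (Dec Co IsC)
open Cfsg.Agent.Omega.NOThreeL.RRed.Blk.Asm
open Cfsg.Agent.Omega.NOThreeL.RRed.Blk.AsmCore (EE)
open Cfsg.Agent.Omega.NOThreeL.RRed.Blk.TypesNat (XH ph ph_smul ph_surj im mem_im)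
open Cfsg.Agent.Omega.NOThreeL.RZ.TwoE.NatFam (NatF EB)
open Cfsg.Agent.Omega.NOThreeL.RZ.TwoC (DecE.PP)
open Cfsg.Agent.Omega.NOThreeL.RZ.TwoC.BadE Cfsg.Agent.Omega.NOThreeL.RZ.TwoC.BadNat
open scoped Pointwise

universe u

variable {G : Type u} [Group G] [Finite G] {S : Sylow 2 G}
  {Q : Nrm (MZ (S : Subgroup G)) (zl (S : Subgroup G) (MZ (S : Subgroup G)))} {N C : Subgroup (XH Q) → AddSubgroup Q.Mod}

/-- the record of `BadNat` -/
theorem dt (F : NatF S Q N C) (hSL : (S : Subgroup G) ≤ MZ (S : Subgroup G)) :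
    Dt S (MZ (S : Subgroup G)) Q (EB S Q) N C where
  SL := hSL
  fam := F.fam
  hR := fun g m hm => F.rs g hm
  sq := F.inp.el.2
  hA := by
    rintro _ ⟨A, hA, rfl⟩
    exact ⟨A, hA, rfl⟩
  oth := fun D hD A hA hne a ha m hm => (F.gb D hD).oth _ ⟨A, hA, rfl⟩ hne a ha m hm

/-- **`R1 S ≤ R₀`** -/
theorem R1_le_R₀ (F : NatF S Q N C) (hSL : (S : Subgroup G) ≤ MZ (S : Subgroup G)) :
    R1 (S : Subgroup G) ≤ su Q (Rs (EB S Q) C) := by
  have D := dt F hSL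
  rw [R_eq D.dec D.irr D.mv]
  refine le_inf R1_le ?_
  have h1 : (⨆ b : EB S Q, pre Q (Eg (EB S Q) N b)) ≤ centralizer (R1 (S : Subgroup G) : Set G) := by
    refine iSup_le fun b => ?_
    have h3 : ∀ x ∈ Eg (EB S Q) N b, ∀ m ∈ Q.ad (R1 (S : Subgroup G)), x • m = m := by
      have h4 : Eg (EB S Q) N b ≤
          { carrier := {x : XH Q | ∀ m ∈ Q.ad (R1 (S : Subgroup G)), x • m = m}
            mul_mem' := fun {x y} hx hy m hm => by rw [mul_smul, hy m hm, hx m hm]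
            one_mem' := fun m _ => one_smul _ m
            inv_mem' := fun {x} hx m hm => by
              conv_lhs => rw [← hx m hm]
              rw [inv_smul_smul] } := by
        refine (closure_le _).2 ?_
        rintro _ ⟨g, D', ⟨A, hA, rfl⟩, -, a, ha, rfl⟩ m hm
        obtain ⟨g, rfl⟩ := ph_surj Q g
        obtain ⟨a, haA, rfl⟩ := mem_im.1 ha
        have h5 : g⁻¹ • m ∈ Q.ad (R1 (S : Subgroup G)) :=
          (mem_normalizer_iff.1 (YS_le_norm_R1 (S : Subgroup G) (inv_mem g.2)) _).1 hm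
        have h6 : a • g⁻¹ • m = g⁻¹ • m :=
          RSplit.Nrm.ext (mem_cent_iff.1 (mx_cent hA.1 hA.2 haA) _ h5)
        rw [← map_inv, ← map_mul, ← map_mul, ph_smul, mul_smul, mul_smul, h6, smul_inv_smul]
      exact fun x hx => h4 hx
    intro x hx
    obtain ⟨hxL, hxE⟩ := mem_pre.1 hx
    rw [mem_cent_iff]
    intro w hw
    have h5 := h3 _ hxE (Q.of w (R1_le hw)) hw
    rw [ph_smul] at h5
    exact congrArg Q.val h5
  intro r hr
  rw [mem_centralizer_iff]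
  intro x hx
  exact (mem_centralizer_iff.1 (h1 hx) r hr).symm

/-- **the hypothesis `bad` of `FrE.false_of`**, `R = R1 S` -/
theorem bad (F : NatF S Q N C) (hSL : (S : Subgroup G) ≤ MZ (S : Subgroup G)) {e : G}
    (he : e ∈ TwoC.DecE.PP (fun b : EB S Q => su Q (N b)) (su Q (Rs (EB S Q) C))
      (fun b : EB S Q => {x | x ∈ su Q (N b) ∧ x ≠ 1})) (heZ : e ∈ zc (S : Subgroup G)) :
    ∀ d ∈ centralizer ({e} : Set G), d ∈ normalizer (R1 (S : Subgroup G) : Set G) →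
      d ∈ normalizer ((⨆ b : EB S Q, su Q (N b) : Subgroup G) : Set G) →
      d ∈ normalizer (((S : Subgroup G) ⊓ centralizer (R1 (S : Subgroup G) : Set G) : Subgroup G) : Set G) →
      d ∈ normalizer (YS (S : Subgroup G) : Set G) → Odd (orderOf d) →
      (∀ j ∈ (S : Subgroup G) ⊓ centralizer (R1 (S : Subgroup G) : Set G), ∀ w ∈ (⨆ b : EB S Q, su Q (N b) : Subgroup G),
        (j * d * j⁻¹ * d⁻¹) * (d * w * d⁻¹ * w⁻¹) = (d * w * d⁻¹ * w⁻¹) * (j * d * j⁻¹ * d⁻¹)) →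
      d ∈ centralizer ((⨆ b : EB S Q, su Q (N b) : Subgroup G) : Set G) :=
  bad_nat (dt F hSL) (R1_le_R₀ F hSL) (fun A hA => mx_cent hA.1 hA.2) (fun s hs => by
    rw [mem_centralizer_singleton_iff]
    exact ((Cfsg.Agent.MinSimple.VModule.mem_zc.1 heZ).2.1 s hs)) fun b => by
    obtain ⟨n, hn, hc⟩ := he.2 b
    exact ⟨n, hn.2, hc⟩

end Cfsg.Agent.Omega.NOThreeL.RZ.TwoE.NatDt
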