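import Cfsg.Agent.Omega.NOThreeL.RZ.TwoE.NatFam
import Cfsg.Agent.Omega.NOThreeL.RZ.TwoC.BadNat
import Cfsg.Agent.Omega.NOThreeL.RZ.TwoC.FrEOf
import Cfsg.Agent.Omega.NOThreeL.RRed.EOneTr
import Cfsg.Agent.Omega.NOThreeL.RRed.BestR

/-!
# [R-z], [Nat] : the family of all natural blocks and `E₁`

`F : NatF S Q N C`, `N' b = su Q (N b)`, `E' b = pre Q (Eg EB N b)`, `R₀ = su Q (Rs EB C)`.

* `dt` : `BadNat.Dt`; **`sup_E`** : `⨆ E' b = E₁ (Y ∩ C(V*))`;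
* `E1_cent` : `R₀ ≤ C(E₁)`; **`R1_le`** : `R₁ ≤ R₀`; `mx_cent` : the minimal exact offenders of `S` centralise `R₀`;
* **`sB`** : `N_G(S)` normalises `∏ N' b`;
* **`hA`** : the members of `𝒜(O₂(C_G(Z)))` centralise `R₀`.
-/

set_option autoImplicit false
set_option linter.unusedSectionVars false

namespace Cfsg.Agent.Omega.NOThreeL.RZ.TwoE.NatFam

open Subgroup Cfsg Cfsg.Agent.ZN Cfsg.Agent.Omega.MinPar Cfsg.Agent.Omega.Frame Cfsg.Agent.Omega.FrameNOFF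
open Cfsg.Agent.Omega.NOThreeL.RSplit (Nrm)
open Cfsg.Agent.Omega.NOThreeL.RRed
open Cfsg.Agent.Omega.NOThreeL.RRed.Blk
open Cfsg.Agent.Omega.NOThreeL.Star (YS)
open Cfsg.Agent.Omega.NOThreeL.RTree (RB)
open Cfsg.Agent.Omega.NOThreeL.RTreeF (RBF)
open Cfsg.Agent.Omega.NOThreeL.Merge (MZ isLoc_MZ)
open Cfsg.Agent.Omega.NOThreeL.RRed.Blk.TypesNat (XH ph ph_smul XH_faith ph_eq ph_surj)
open Cfsg.Agent.Omega.NOThreeL.RRed.Blk.Asm
open Cfsg.Agent.Omega.NOThreeL.RRed.Blk.AsmCore (im ph_mem_im)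
open Cfsg.Agent.Omega.NOThreeL.RRed.EOne (E1 J1 E1S R1 Z1)
open Cfsg.Agent.Omega.NOThreeL.RZ.TwoC (BadNat.Dt)
open Cfsg.Agent.Omega.ML.Final (MLK)
open scoped Pointwise

universe u

variable {G : Type u} [Group G] [Finite G] {S : Sylow 2 G}

namespace NatF

variable {Q : Nrm (MZ (S : Subgroup G)) (zl (S : Subgroup G) (MZ (S : Subgroup G)))}
  {N C : Subgroup (XH Q) → AddSubgroup Q.Mod} (F : NatF S Q N C)
include F

/-- the data of `BadNat` -/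
theorem dt (hSL : (S : Subgroup G) ≤ MZ (S : Subgroup G)) :
    TwoC.BadNat.Dt S (MZ (S : Subgroup G)) Q (EB S Q) N C where
  SL := hSL
  fam := F.fam
  hR g m hm := F.rs g hm
  sq := F.inp.el.2
  hA := by
    rintro _ ⟨A, hA, rfl⟩
    exact ⟨A, hA, rfl⟩
  oth D hD A hA hne := (F.gb D hD).oth _ ⟨A, hA, rfl⟩ hne

/-- an atom is in the group of its block -/
theorem le_E {A : Subgroup G} (hSL : (S : Subgroup G) ≤ MZ (S : Subgroup G))
    (hA : A ∈ AsmCore.EE (S : Subgroup G) (zl (S : Subgroup G) (MZ (S : Subgroup G)))) :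
    A ≤ ⨆ b : EB S Q, pre Q (Eg (EB S Q) N b) := by
  intro a ha
  have h1 : im Q A ∈ EB S Q := ⟨A, hA, rfl⟩
  refine le_iSup (fun b : EB S Q => pre Q (Eg (EB S Q) N b)) ⟨_, h1⟩ ?_
  exact mem_pre.2 ⟨hSL (hA.1 ha), le_Eg h1 (ph_mem_im Q (a := ⟨a, hSL (hA.1 ha)⟩) ha)⟩

/-- `E' b ≤ E₁ C(V*)` -/
theorem E_le (hSL : (S : Subgroup G) ≤ MZ (S : Subgroup G)) (b : EB S Q) :
    pre Q (Eg (EB S Q) N b) ≤ E1 (S : Subgroup G) ⊔ (MZ (S : Subgroup G) ⊓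
      centralizer (zl (S : Subgroup G) (MZ (S : Subgroup G)) : Set G)) := by
  have h1 : Eg (EB S Q) N b ≤ im Q (E1 (S : Subgroup G)) := by
    refine (Subgroup.closure_le _).2 ?_
    rintro _ ⟨g, D', ⟨A, hA, rfl⟩, -, _, ⟨a, ha, rfl⟩, rfl⟩
    obtain ⟨x, rfl⟩ := ph_surj Q g
    rw [← map_inv, ← map_mul, ← map_mul]
    have haE : (a : G) ∈ E1 (S : Subgroup G) := EOne.mx_le_E1 hA.1 hA.2 ha
    exact ph_mem_im Q (a := x * a * x⁻¹) ((mem_normalizer_iff.1 (EOne.YS_le_norm_E1 _ x.2) _).1 haE)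
  intro x hx
  obtain ⟨hxL, hxE⟩ := mem_pre.1 hx
  obtain ⟨y, hy, hxy⟩ := h1 hxE
  have h3 : y⁻¹ * ⟨x, hxL⟩ ∈ (ph Q).ker := by
    rw [MonoidHom.mem_ker, map_mul, map_inv, hxy, inv_mul_cancel]
  have h4 : (y : G)⁻¹ * x ∈ centralizer (zl (S : Subgroup G) (MZ (S : Subgroup G)) : Set G) :=
    (TypesNat.mem_ker Q).1 h3
  have e : x = y * ((y : G)⁻¹ * x) := by group
  rw [e]
  have h5 : (y : G)⁻¹ * x ∈ MZ (S : Subgroup G) :=
    (MZ (S : Subgroup G)).mul_mem ((MZ (S : Subgroup G)).inv_mem y.2) hxL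
  exact mul_mem (mem_sup_left hy) (mem_sup_right ⟨h5, h4⟩)

/-- **`⨆ E' b = E₁ (Y ∩ C(V*))`** -/
theorem sup_E [Nonempty (EB S Q)] (hSL : (S : Subgroup G) ≤ MZ (S : Subgroup G)) :
    (⨆ b : EB S Q, pre Q (Eg (EB S Q) N b)) = E1 (S : Subgroup G) ⊔ (MZ (S : Subgroup G) ⊓
      centralizer (zl (S : Subgroup G) (MZ (S : Subgroup G)) : Set G)) := by
  apply le_antisymm (iSup_le (F.E_le hSL))
  refine sup_le ?_ ?_
  · exact EOne.E1_le_of (TwoC.FrEOf.le_norm_E (F.dec hSL)) fun A hA hm => F.le_E hSL ⟨hA, hm⟩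
  · obtain ⟨b⟩ := (inferInstance : Nonempty (EB S Q))
    exact cent_le_pre.trans (le_iSup (fun b : EB S Q => pre Q (Eg (EB S Q) N b)) b)

/-- `R₀ ≤ C(E₁)` -/
theorem E1_cent (hSL : (S : Subgroup G) ≤ MZ (S : Subgroup G)) [Nonempty (EB S Q)] :
    E1 (S : Subgroup G) ≤ centralizer (su Q (Rs (EB S Q) C) : Set G) := by
  refine (le_sup_left.trans (F.sup_E hSL).ge).trans ?_
  exact iSup_le (F.dec hSL).ER

/-- the minimal exact offenders of `S` centralise `R₀` -/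
theorem mx_cent (hSL : (S : Subgroup G) ≤ MZ (S : Subgroup G)) {A : Subgroup G} (hA : A ≤ (S : Subgroup G))
    (hm : Mx (zl (S : Subgroup G) (MZ (S : Subgroup G))) A) : A ≤ centralizer (su Q (Rs (EB S Q) C) : Set G) :=
  (F.le_E hSL ⟨hA, hm⟩).trans (iSup_le (F.dec hSL).ER)

/-- **`R₁ ≤ R₀`** -/
theorem R1_le (hSL : (S : Subgroup G) ≤ MZ (S : Subgroup G)) [Nonempty (EB S Q)] :
    R1 (S : Subgroup G) ≤ su Q (Rs (EB S Q) C) := by
  have h1 := TwoC.BadE.R_eq (F.dt hSL).dec (F.dt hSL).irr (F.dt hSL).mv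
  rw [h1]
  refine le_inf EOne.R1_le ?_
  rw [le_centralizer_iff, F.sup_E hSL]
  refine sup_le EOne.E1_cent ?_
  exact inf_le_right.trans (centralizer_le EOne.R1_le)

/-- **`N_G(S)` normalises the product of the blocks.** -/
theorem sB (hSL : (S : Subgroup G) ≤ MZ (S : Subgroup G)) [Nonempty (EB S Q)] :
    normalizer ((S : Subgroup G) : Set G) ≤ normalizer ((⨆ b : EB S Q, su Q (N b) : Subgroup G) : Set G) := by
  have hU : normalizer ((S : Subgroup G) : Set G) ≤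
      normalizer (zl (S : Subgroup G) (MZ (S : Subgroup G)) : Set G) := TwoC.FrEOf.nS_Vs
  have hY : normalizer ((S : Subgroup G) : Set G) ≤ normalizer (MZ (S : Subgroup G) : Set G) := TwoC.nS_ys
  have hE : normalizer ((S : Subgroup G) : Set G) ≤
      normalizer ((⨆ b : EB S Q, pre Q (Eg (EB S Q) N b) : Subgroup G) : Set G) := by
    rw [F.sup_E hSL]
    exact Cfsg.Agent.Omega.NO3b.Bang.le_normalizer_sup EOne.nS_E1 (TwoC.FrEOf.norm_inf_cent hY hU)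
  intro n hn
  have key : ∀ n ∈ normalizer ((S : Subgroup G) : Set G),
      MulAut.conj n • (⨆ b : EB S Q, su Q (N b)) ≤ ⨆ b : EB S Q, su Q (N b) := by
    intro n hn
    change (⨆ b : EB S Q, su Q (N b)).map (MulAut.conj n).toMonoidHom ≤ _
    rw [Subgroup.map_iSup]
    refine iSup_le fun b => ?_
    obtain ⟨c, hc⟩ := TwoC.BadE.perm_of (F.dt hSL).dec (F.dt hSL).irr (F.dt hSL).mv (hU hn) (hE hn) b
    exact hc.le.trans (le_iSup (fun b : EB S Q => su Q (N b)) c)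
  exact ChoiceBase.mem_normalizer_of_cj_le (key n hn)

/-- the members of `𝒜(O₂(C_G(Z)))` centralise `R₀` -/
theorem hA (ml : MLK.{u, u}) (B : RB S) [Nonempty (EB S Q)]
    (gB : (⨆ b : EB S Q, su Q (N b)) ≤ NoFF.Basic.V (zc (S : Subgroup G) ⊓ ⨆ b : EB S Q, su Q (N b))
      (MZ (S : Subgroup G) ⊓ centralizer ((zc (S : Subgroup G) ⊓ su Q (Rs (EB S Q) C) : Subgroup G) : Set G)))
    (VO : zl (S : Subgroup G) (MZ (S : Subgroup G)) ≤ o2 (CZ (S : Subgroup G))) :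
    ∀ A ∈ ChoiceBase.AA (o2 (CZ (S : Subgroup G))), A ≤ centralizer (su Q (Rs (EB S Q) C) : Set G) := by
  have hL := isLoc_MZ B.ctx B.full B.data.noff
  have hSL := hL.le
  have hd := F.dec hSL
  have hZ := TwoC.DecE.zc_eq hd (EOne.VS B) F.inp.el.2 (MinSimple.VModule.zc_le_zl _ _)
  exact BestR.hA ml hSL (ML.GNN.kgroup_of_isLoc B.ctx B.ctx.not_isPGroup hL) F.inp.el VO hd.sup
    (TwoC.DecE.disj hd) (TwoC.DecE.le_norm_B hd) hd.Rnor hZ.le gB F.inp.no fun X hX hm => F.mx_cent hSL hX hm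

end NatF

end Cfsg.Agent.Omega.NOThreeL.RZ.TwoE.NatFam
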