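import Cfsg.Agent.Omega.NOThreeL.RRed.GlueRef
import Cfsg.Agent.Omega.NOThreeL.RRed.EOneTr
import Cfsg.Agent.Omega.NOThreeL.RRed.FourTree
import Cfsg.Agent.Omega.NOThreeL.RRed.WideTree
import Cfsg.Agent.Omega.NOThreeL.RRed.Blk.AsmInp

/-!
# NO-3L, box R: the tree of `NrOf K E1Fr` (#25243, #26279, #26726)

`S` in box R (`RBF`), not `E1S S`, i.e. `C_Z(E₁) ≠ 1`.

* `TvO` : some `s ∈ S` is a transvection of `V*`;
* `NonS S` = `¬ Spl S (MZ S)` : some active `P ∈ P*(S)` has natural `SL₂(q)`-blocks, `q ≥ 4`, which do not split;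
* `SpO` : no transvection in `S`, no `NonS`;  `NsO` : no transvection in `S`, `NonS`;
* **`nrOf`** : the three sockets imply `NrOf K E1Fr`;  `brOf` : and `BrTOf K FBF`.
-/

set_option autoImplicit false
set_option linter.unusedSectionVars false

namespace Cfsg.Agent.Omega.NOThreeL.RZ.TwoE.NrTree

open Subgroup Cfsg Cfsg.Agent.ZN Cfsg.Agent.Omega.MinPar Cfsg.Agent.Omega.Frame Cfsg.Agent.Omega.FrameNOFF
open Cfsg.Agent.Omega.FFThm Cfsg.Agent.Lib.SL2Mat
open Cfsg.Agent.Omega.FrameFF (cv)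
open Cfsg.Agent.Omega.NO3S.ThmB Cfsg.Agent.Omega.NO3S.KeyRad
open Cfsg.Agent.Omega.NOThreeL.RRed.NS hiding rt
open Cfsg.Agent.Omega.NOThreeL.RRed.Blk.AsmInp (Spl act_iff)
open Cfsg.Agent.Omega.NOThreeL.Merge (MZ le_MZ)
open Cfsg.Agent.Omega.NOThreeL.RTreeF
open Cfsg.Agent.Omega.NOThreeL.RRed.GlueSig
open Cfsg.Agent.Omega.NOThreeL.RRed.EOne (E1S E1Fr rr_of_e1s)
open Cfsg.Agent.Omega.NOThreeL.RRed.FourTree (TvS)
open Cfsg.Agent.Omega.NOThreeL.RRed.WideTree (Act)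

universe u

/-- some active `P ∈ P*(S)` has natural `SL₂(q)`-blocks, `q ≥ 4`, which do not split -/
def NonS {G : Type u} [Group G] [Finite G] (S : Sylow 2 G) : Prop := ¬ Spl S (MZ (S : Subgroup G))

/-- `¬ NonS S`, for the active `P ∈ P*(S)` -/
theorem spl_of {G : Type u} [Group G] [Finite G] {S : Sylow 2 G} (hc : IsCharacteristicTwoType G) (h : ¬ NonS S)
    {P : Subgroup G} (hP : Act (S : Subgroup G) P) (F : Type) [Field F] [Finite F] [CharP F 2] (k : ℕ)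
    (M : NatKM F (S : Subgroup G) P (zl (S : Subgroup G) P) (cv (S : Subgroup G) P) k) (hF : 4 ≤ Nat.card F) :
    (⨆ j, blk M j) ⊓ cv (S : Subgroup G) P = ⊥ :=
  not_not.1 h P hP.1 (le_MZ hP.1) ((act_iff hc hP.1).1 hP) F k M hF

/-- some `s ∈ S` is a transvection of `V*` -/
def TvO : Prop :=
  ∀ (G : Type u) [Group G] [Finite G] (S : Sylow 2 G), RBF S → ¬ E1S (S : Subgroup G) → TvS (S : Subgroup G) → False

/-- no transvection in `S`, all natural blocks split -/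
def SpO : Prop :=
  ∀ (G : Type u) [Group G] [Finite G] (S : Sylow 2 G), RBF S → ¬ E1S (S : Subgroup G) → ¬ TvS (S : Subgroup G) →
    ¬ NonS S → False

/-- no transvection in `S`, some natural block does not split -/
def NsO : Prop :=
  ∀ (G : Type u) [Group G] [Finite G] (S : Sylow 2 G), RBF S → ¬ E1S (S : Subgroup G) → ¬ TvS (S : Subgroup G) →
    NonS S → False

/-- **The tree.** -/
theorem nrOf {K : Cls.{u}} (tv : TvO.{u}) (sp : SpO.{u}) (ns : NsO.{u}) : NrOf K E1Fr.{u} := by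
  intro G _ _ _ S hB he _
  exfalso
  by_cases ht : TvS (S : Subgroup G)
  · exact tv G S hB he ht
  · by_cases hn : NonS S
    · exact ns G S hB he ht hn
    · exact sp G S hB he ht hn

/-- `BrTOf K FBF` -/
theorem brOf {K : Cls.{u}} (tv : TvO.{u}) (sp : SpO.{u}) (ns : NsO.{u}) : BrTOf K FBF.{u} :=
  (nrOf tv sp ns).br fun _ _ _ _ h he => rr_of_e1s h.toRB he

end Cfsg.Agent.Omega.NOThreeL.RZ.TwoE.NrTree
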