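import Cfsg.Agent.Omega.NOThreeL.RRed.TvKind
import Cfsg.Agent.Omega.NOThreeL.RZ.TwoC.BadE

/-!
# [R-z]: the field `bad` for letter blocks (`TvFin.Full`)

* `E_gen` : `⨆ E b` is generated by the transvections (and `C_M(V)`), so it is normalised by `N(M) ∩ N(V)`;
* `perm` : `N(M) ∩ N(V)` permutes the `N b`; `norm_B` : and normalises `⨆ N b`;
* **`tv_bad`** : the hypothesis `bad` of `FrE.false_of`, `B = ⨆ b, N b`, `R ≤ R₀`.
-/

set_option autoImplicit false
set_option linter.unusedSectionVars false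

namespace Cfsg.Agent.Omega.NOThreeL.RZ.TwoE.TvBad

open Subgroup Cfsg
open Cfsg.Agent.Omega.NOThreeL.RRed
open Cfsg.Agent.Omega.NOThreeL.RRed.Blk
open Cfsg.Agent.Omega.KL.TwoS (Rel Lett)
open scoped Pointwise

universe u

variable {G : Type u} [Group G] {S M V : Subgroup G} {I : Type u} {N E : I → Subgroup G} {R₀ : Subgroup G}
  {Om : I → Type u} [∀ i, Fintype (Om i)] [∀ i, DecidableEq (Om i)] {phi : ∀ i, Finset (Om i) → G}

/-- generated by the transvections in `M` -/
def TT (M V : Subgroup G) : Subgroup G := closure {x | x ∈ M ∧ ∃ c ∈ V, TvFin.TvV V c x}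

theorem norm_TT {d : G} (hM : d ∈ normalizer (M : Set G)) (hV : d ∈ normalizer (V : Set G)) :
    d ∈ normalizer (TT M V : Set G) := by
  have key : ∀ d : G, d ∈ normalizer (M : Set G) → d ∈ normalizer (V : Set G) → ∀ x ∈ TT M V, d * x * d⁻¹ ∈ TT M V := by
    intro d hM hV
    have h1 : TT M V ≤ (TT M V).comap (MulAut.conj d).toMonoidHom := by
      rw [TT, closure_le]
      rintro x ⟨hx, c, hc, h⟩
      refine subset_closure ⟨(mem_normalizer_iff.1 hM x).1 hx, d * c * d⁻¹, (mem_normalizer_iff.1 hV c).1 hc, ?_⟩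
      intro w hw
      have hw' : d⁻¹ * w * d ∈ V := TvKind.conj_mem' hV hw
      have e0 : (MulAut.conj d).toMonoidHom x = d * x * d⁻¹ := rfl
      rw [e0]
      rcases h _ hw' with e | e
      · left
        calc d * x * d⁻¹ * w * (d * x * d⁻¹)⁻¹ = d * (x * (d⁻¹ * w * d) * x⁻¹) * d⁻¹ := by group
          _ = w := by rw [e]; group
      · right
        calc d * x * d⁻¹ * w * (d * x * d⁻¹)⁻¹ = d * (x * (d⁻¹ * w * d) * x⁻¹) * d⁻¹ := by group
          _ = w * (d * c * d⁻¹) := by rw [e]; group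
    exact fun x hx => h1 hx
  rw [mem_normalizer_iff]
  refine fun x => ⟨key d hM hV x, fun hx => ?_⟩
  have h1 := key d⁻¹ (inv_mem hM) (inv_mem hV) _ hx
  have e : d⁻¹ * (d * x * d⁻¹) * d⁻¹⁻¹ = x := by group
  rwa [e] at h1

/-- `⨆ E b` is generated by the transvections -/
theorem E_gen [Nonempty I] (F : TvFin.Full S M V N E R₀ Om phi) : (⨆ b, E b) = TT M V := by
  apply le_antisymm
  · refine iSup_le fun b => ?_
    have key : ∀ σ : Equiv.Perm (Om b), ∀ g ∈ E b, Rel (phi b) g σ → g ∈ TT M V := by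
      intro σ
      refine Equiv.Perm.swap_induction_on σ ?_ ?_
      · intro g hg h
        have h1 : g ∈ centralizer (V : Set G) := by
          rw [← F.toDec.sup_Co b]
          have h2 : N b ⊔ Co N R₀ b ≤ centralizer ({g} : Set G) := by
            refine sup_le ?_ (sup_le (iSup_le fun k => ?_) ?_)
            · intro z hz
              rw [mem_centralizer_singleton_iff]
              exact mem_centralizer_iff.1 ((F.lett b).cent_of_one h) z hz
            · intro z hz
              rw [mem_centralizer_singleton_iff]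
              exact mem_centralizer_iff.1 (F.EC b k.1 (Ne.symm k.2) hg) z hz
            · intro z hz
              rw [mem_centralizer_singleton_iff]
              exact mem_centralizer_iff.1 (F.ER b hg) z hz
          rw [mem_centralizer_iff]
          intro z hz
          exact mem_centralizer_singleton_iff.1 (h2 hz)
        refine subset_closure ⟨F.EL b hg, 1, one_mem _, fun w hw => Or.inl ?_⟩
        rw [← mem_centralizer_iff.1 h1 w hw, mul_inv_cancel_right]
      · intro f x y hxy ih g hg h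
        obtain ⟨s, hs, h1, h2⟩ := F.swap b x y hxy
        have h3 : s ∈ TT M V := by
          refine subset_closure ⟨F.EL b hs, phi b {x, y}, F.toDec.NU b ?_, h2⟩
          exact ((F.lett b).mem _).2 ⟨_, by rw [Finset.card_pair hxy]; exact even_two, rfl⟩
        have h4 : s⁻¹ * g ∈ TT M V := by
          refine ih _ (mul_mem (inv_mem hs) hg) ?_
          have h5 := h1.inv.mul h
          rwa [← mul_assoc, inv_mul_cancel, one_mul] at h5
        have e : g = s * (s⁻¹ * g) := by group
        rw [e]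
        exact mul_mem h3 h4
    intro g hg
    obtain ⟨σ, h⟩ := (F.lett b).act g hg
    exact key σ g hg h
  · rw [TT, closure_le]
    rintro x ⟨hx, c, hc, h⟩
    by_cases hne : x ∈ centralizer (V : Set G)
    · obtain ⟨b⟩ := ‹Nonempty I›
      exact (le_iSup E b) (F.CE b (mem_inf.2 ⟨hx, hne⟩))
    · obtain ⟨i, hi, -⟩ := F.tvs x hx c hc h hne
      exact (le_iSup E i) hi

theorem norm_E [Nonempty I] (F : TvFin.Full S M V N E R₀ Om phi) {d : G} (hM : d ∈ normalizer (M : Set G))
    (hV : d ∈ normalizer (V : Set G)) : d ∈ normalizer ((⨆ b, E b : Subgroup G) : Set G) := by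
  rw [E_gen F]
  exact norm_TT hM hV

section syl

variable [Finite G] {S : Sylow 2 G}

/-- `N(M) ∩ N(V)` permutes the `N b` -/
theorem perm [Nonempty I] (F : TvFin.Full (S : Subgroup G) M V N E R₀ Om phi) {d : G}
    (hM : d ∈ normalizer (M : Set G)) (hV : d ∈ normalizer (V : Set G)) (b : I) :
    ∃ c, MulAut.conj d • N b = N c :=
  TwoC.BadE.perm_of F.toDec (fun b _ hW hn hne => TvKind.irr F b hW hn hne) (TvKind.mv F) hV (norm_E F hM hV) b

theorem norm_B [Nonempty I] (F : TvFin.Full (S : Subgroup G) M V N E R₀ Om phi) {d : G}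
    (hM : d ∈ normalizer (M : Set G)) (hV : d ∈ normalizer (V : Set G)) :
    d ∈ normalizer ((⨆ b, N b : Subgroup G) : Set G) := by
  have key : ∀ d : G, d ∈ normalizer (M : Set G) → d ∈ normalizer (V : Set G) → ∀ x ∈ ⨆ b, N b,
      d * x * d⁻¹ ∈ ⨆ b, N b := by
    intro d hM hV
    have h1 : (⨆ b, N b) ≤ (⨆ b, N b : Subgroup G).comap (MulAut.conj d).toMonoidHom := by
      refine iSup_le fun b x hx => ?_
      obtain ⟨c, hc⟩ := perm F hM hV b
      exact (le_iSup N c) ((conj_smul hc).1 hx)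
    exact fun x hx => h1 hx
  rw [mem_normalizer_iff]
  refine fun x => ⟨key d hM hV x, fun hx => ?_⟩
  have h1 := key d⁻¹ (inv_mem hM) (inv_mem hV) _ hx
  have e : d⁻¹ * (d * x * d⁻¹) * d⁻¹⁻¹ = x := by group
  rwa [e] at h1

end syl

section glue

open Cfsg.Agent.ZN (zc zl)
open Cfsg.Agent.Omega.NOThreeL.Star (YS)

variable [Finite G] {S : Sylow 2 G} [Finite I] [Nonempty I] {R : Subgroup G}

/-- `N_G(S)` normalises `⨆ N b` -/
theorem nS_B (F : TvFin.Full (S : Subgroup G) (YS (S : Subgroup G)) (zl (S : Subgroup G) (YS S)) N E R₀ Om phi)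
    (hn : normalizer ((S : Subgroup G) : Set G) ≤ normalizer (YS (S : Subgroup G) : Set G)) :
    normalizer ((S : Subgroup G) : Set G) ≤ normalizer ((⨆ b, N b : Subgroup G) : Set G) := fun _ hd =>
  norm_B F (hn hd) (TwoC.BadE.norm_zl F.toDec.SL (hn hd))

/-- **the hypothesis `bad` of `FrE.false_of`, letter blocks** -/
theorem tv_bad (F : TvFin.Full (S : Subgroup G) (YS (S : Subgroup G)) (zl (S : Subgroup G) (YS S)) N E R₀ Om phi)
    (hR : R ≤ R₀) (hsq : ∀ x ∈ zl (S : Subgroup G) (YS S), x ^ 2 = 1) {e : G} :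
    ∀ d ∈ centralizer ({e} : Set G), d ∈ normalizer (R : Set G) → d ∈ normalizer ((⨆ b, N b : Subgroup G) : Set G) →
      d ∈ normalizer (((S : Subgroup G) ⊓ centralizer (R : Set G) : Subgroup G) : Set G) →
      d ∈ normalizer (YS (S : Subgroup G) : Set G) → Odd (orderOf d) →
      (∀ j ∈ (S : Subgroup G) ⊓ centralizer (R : Set G), ∀ w ∈ (⨆ b, N b : Subgroup G),
        (j * d * j⁻¹ * d⁻¹) * (d * w * d⁻¹ * w⁻¹) = (d * w * d⁻¹ * w⁻¹) * (j * d * j⁻¹ * d⁻¹)) →
      d ∈ centralizer ((⨆ b, N b : Subgroup G) : Set G) :=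
  TwoC.BadE.bad_of F.toDec hR (fun b _ hW hn hne => TvKind.irr F b hW hn hne) (TvKind.mv F) hsq (l := fun _ => ⊥)
    (fun b => Or.inr fun _ ho hN hE hd _ => TvKind.kind F b ho hN hE hd)
    (fun _ hdY hdU _ _ => norm_E F hdY hdU)

end glue

end Cfsg.Agent.Omega.NOThreeL.RZ.TwoE.TvBad
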