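import Cfsg.Agent.Omega.NOThreeL.RZ.TwoE.NrTree
import Cfsg.Agent.Omega.NOThreeL.RZ.TwoE.Tv
import Cfsg.Agent.Omega.NOThreeL.RZ.TwoE.TvBad
import Cfsg.Agent.Omega.NOThreeL.RZ.TwoC.EndP
import Cfsg.Agent.Omega.NOThreeL.RRed.Ex.Main

/-!
# [R-z]: the socket `TvO` (a transvection in `S`, `C_Z(E₁) ≠ 1`)

`frE_tvS` (the frame `FrE S R₁ (∏ N b) e` from the transvection blocks), `FrE.false_of`, `tv_bad`, and THEOREM EX
(`Ex.Main.exB`, the best offenders of `S` centralise `R₁`).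

* **`tvO`** : `TvO`.
-/

set_option autoImplicit false
set_option linter.unusedSectionVars false

namespace Cfsg.Agent.Omega.NOThreeL.RZ.TwoE.TvEnd

open Subgroup Cfsg
open Cfsg.Agent.ZN (o2 zc zl jj)
open Cfsg.Agent.Omega.ML.Final (MLK)
open Cfsg.Agent.Omega.NOThreeL.Star (YS)
open Cfsg.Agent.Omega.NOThreeL.RTreeF (RBF)
open Cfsg.Agent.Omega.NOThreeL.RTree (RB)
open Cfsg.Agent.Omega.NOThreeL.RZ.TwoC (FrE)
open Cfsg.Agent.Omega.NOThreeL.RRed.Ex.Cent (hb_of)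

universe u

/-- **The socket `TvO`.** -/
theorem tvO (hM : MLK.{u, u}) (hR : NO3b.EndX.RedP.{u, u}) (hE : ML.Ex.Two.Ext.{u, u}) : NrTree.TvO.{u} := by
  intro G _ _ S h h1 ht
  have hB : RB S := h.toRB
  obtain ⟨I, i1, i2, N, E, R₀, Om, i3, i4, phi, F, hRR, e, he, f⟩ :=
    Tv.frE_tvS hB ht h1 (hb_of hB (RRed.Ex.Main.exB hB))
  have := F.nonempty
  exact f.false_of hM hR hE (TvBad.tv_bad F.toFull hRR (RRed.EOne.Vsq hB))

end Cfsg.Agent.Omega.NOThreeL.RZ.TwoE.TvEnd
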