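import Cfsg.Agent.Omega.NOThreeL.RZ.TwoE.SpEnd
import Cfsg.Agent.Omega.NOThreeL.RZ.TwoE.TvEnd
import Cfsg.Agent.Omega.NOThreeL.RZ.TwoE.NsEnd
import Cfsg.Agent.Omega.NOThreeL.RZ.TwoE.NrTree

/-!
# NO-3L, box R: `NrOf K E1Fr` and `BrTOf K FBF` (the plug)

* **`nr`** : `NrOf K E1Fr`, **`br`** : `BrTOf K FBF`, from `MLK`, `RedP`, `Ext` and the inputs `InB` of the nonsplit case
  (`TvEnd.tvO`, `NatFam.spO`, `NsEnd.nsO`).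
-/

set_option autoImplicit false

namespace Cfsg.Agent.Omega.NOThreeL.RZ.TwoE.NrEnd

open Cfsg.Agent.Omega.ML.Final (MLK)
open Cfsg.Agent.Omega.Frame Cfsg.Agent.Omega.FrameNOFF
open Cfsg.Agent.Omega.NOThreeL.RRed.GlueSig
open Cfsg.Agent.Omega.NOThreeL.RRed.EOne (E1Fr)

universe u

variable {K : Cls.{u}}

/-- **`C_Z(E₁) ≠ 1`** -/
theorem nr (hM : MLK.{u, u}) (hR : NO3b.EndX.RedP.{u, u}) (hE : ML.Ex.Two.Ext.{u, u}) (inp : NsEnd.InB.{u}) :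
    NrOf K E1Fr.{u} :=
  NrTree.nrOf (TvEnd.tvO hM hR hE) (NatFam.spO hM hR hE) (NsEnd.nsO hM hR hE inp)

/-- `BrTOf K FBF` -/
theorem br (hM : MLK.{u, u}) (hR : NO3b.EndX.RedP.{u, u}) (hE : ML.Ex.Two.Ext.{u, u}) (inp : NsEnd.InB.{u}) :
    BrTOf K FBF.{u} :=
  NrTree.brOf (TvEnd.tvO hM hR hE) (NatFam.spO hM hR hE) (NsEnd.nsO hM hR hE inp)

end Cfsg.Agent.Omega.NOThreeL.RZ.TwoE.NrEnd
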