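import Cfsg.Agent.Omega.NOThreeL.RRed.Blk.InBOf
import Cfsg.Agent.Omega.NOThreeL.RZ.TwoE.NrEnd
import Cfsg.Agent.Omega.NOThreeL.RRed.MvFam

/-!
# NO-3L, box R: the rows `nr` and `noMv` without inputs

* `nsO` : the socket `NsO`;  **`nr`** : `NrOf K E1Fr`;  **`br`** : `BrTOf K FBF`;
* **`noMv`** : `WNoMv K (FBR E1Fr)`.
-/

set_option autoImplicit false

namespace Cfsg.Agent.Omega.NOThreeL.RZ.TwoE.NrPlug

open Cfsg.Agent.Omega.ML.Final (MLK)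
open Cfsg.Agent.Omega.Frame Cfsg.Agent.Omega.FrameNOFF
open Cfsg.Agent.Omega.NOThreeL.RRed
open Cfsg.Agent.Omega.NOThreeL.RRed.GlueSig
open Cfsg.Agent.Omega.NOThreeL.RRed.EOne (E1Fr)
open Cfsg.Agent.Omega.NOThreeL.RRed.Blk.InBOf (inB)

universe u

variable {K : Cls.{u}}

/-- **the socket `NsO`** -/
theorem nsO (hM : MLK.{u, u}) (hR : NO3b.EndX.RedP.{u, u}) (hE : ML.Ex.Two.Ext.{u, u}) : NrTree.NsO.{u} :=
  NsEnd.nsO hM hR hE inB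

/-- **`C_Z(E₁) ≠ 1`** -/
theorem nr (hM : MLK.{u, u}) (hR : NO3b.EndX.RedP.{u, u}) (hE : ML.Ex.Two.Ext.{u, u}) : NrOf K E1Fr.{u} :=
  NrEnd.nr hM hR hE inB

/-- `BrTOf K FBF` -/
theorem br (hM : MLK.{u, u}) (hR : NO3b.EndX.RedP.{u, u}) (hE : ML.Ex.Two.Ext.{u, u}) : BrTOf K FBF.{u} :=
  NrEnd.br hM hR hE inB

/-- **the row `noMv`** -/
theorem noMv : WideTree.WNoMv K (FBR E1Fr.{u}) :=
  MvFam.wNoMv_of_inB inB K

end Cfsg.Agent.Omega.NOThreeL.RZ.TwoE.NrPlug
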