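import Cfsg.Agent.Omega.GI.Main
import Cfsg.Agent.Omega.ML.GMod

/-!
# [R-z] (helper855 #24885 (a)-(f), helper133 #25243): the two sides, with `AA(O)` only

Pure group theory. `O = O₂(C)`, `D = C`, `K₁ = C_G(e)`, `K₂ = C_G(Z₀)`, `E₁ = (K₁ ∩ Y) N_{K₁}(S)`, `E₂ ≤ K₂ ∩ Y`,
`U₁ = ⟨Z^K₁⟩`, `U₂ = ⟨Z^K₂⟩`, `W₂ = ⟨V*^K₂⟩` lies in every member of `AA(C_O(U₂))`, `NR = ⟨V*^C(R)⟩ ≤ W₂` is
`E₁`-invariant, `B ≤ W₂`, `QB = O₂(C_G(B))` is `E₂`-invariant and contains `C_O(U₁) ∩ C(B)`; `⟨K₁, E₂⟩` is nonlocal.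

* `Sides` : this situation (only `A ∈ AA(O)` is used on `W₂`, not all elementary abelian subgroups of `O`);
* **`Sides.main`** : some `F = C_A(NR)`, `A ∈ AA(C_O(U₁))`, is exact on `W₂` and moves it (alpha), or some
  `F ∈ AA(C_O(U₂))`, `F ≤ QB` moves `U₁` and is exact on `X₁ = ⟨W₂^K₁⟩ U₁` (beta).
-/

set_option autoImplicit false
set_option linter.unusedSectionVars false

namespace Cfsg.Agent.Omega.NOThreeL.RZ.TwoE

open Subgroup Cfsg Cfsg.Agent.ZN Cfsg.Agent.Omega.MinPar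
open Cfsg.Agent.Omega.NO3S.EThree Cfsg.Agent.Omega.NO3S.EThree.ExactA
open Cfsg.Agent.ZN.ChoiceBase (AA mm mm_eq mem_AA_iff AA_nonempty card_le_mm cj mem_cj cj_mem_AA cj_inf cj_mono cj_centralizer
  cj_eq_of_mem_normalizer mem_normalizer_of_cj_le card_cj)
open Cfsg.Agent.Omega.NoFF.Basic (comm_symm comm_mono)
open Cfsg.Agent.Omega.EK3.Rank
open Cfsg.Agent.Omega.ML.GMod (ri_mono)
open Cfsg.Agent.Omega.GI (Inv cj_sup' exact_half relIndex_congr relIndex_sup_of_comm)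

universe u

variable {G : Type u} [Group G]

/-- **The data of the two sides.** -/
structure Sides (O D K₁ K₂ E₁ E₂ U₁ U₂ W₂ NR B QB : Subgroup G) : Prop where
  D1 : D ≤ K₁
  D2 : D ≤ K₂
  e1 : E₁ ≤ K₁
  g1 : K₁ ≤ D ⊔ E₁
  e2 : E₂ ≤ K₂
  el1 : IsElementaryAbelian 2 U₁
  el2 : IsElementaryAbelian 2 U₂
  UO1 : U₁ ≤ O
  UO2 : U₂ ≤ O
  KU : K₁ ≤ normalizer (U₁ : Set G)
  KW : K₂ ≤ normalizer (W₂ : Set G)
  q1 : K₁ ≤ normalizer ((O ⊓ centralizer (U₁ : Set G) : Subgroup G) : Set G)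
  q2 : K₂ ≤ normalizer ((O ⊓ centralizer (U₂ : Set G) : Subgroup G) : Set G)
  core1 : ∀ R : Subgroup G, R ≤ O → K₁ ≤ normalizer (R : Set G) → R ≤ centralizer (U₁ : Set G)
  no1 : NoOn O U₁
  no2 : NoOn O U₂
  UW : U₂ ≤ W₂
  hW : ∀ A ∈ AA (O ⊓ centralizer (U₂ : Set G)), W₂ ≤ A
  RW : NR ≤ W₂
  ER : E₁ ≤ normalizer (NR : Set G)
  noR : ∀ A ∈ AA (O ⊓ centralizer (U₁ : Set G)),
    (centralizer (NR : Set G)).relIndex A ≤ (centralizer (A : Set G)).relIndex NR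
  BW : B ≤ W₂
  EQ : E₂ ≤ normalizer (QB : Set G)
  BQ : O ⊓ centralizer (U₁ : Set G) ⊓ centralizer (B : Set G) ≤ QB
  nonloc : ∀ R : Subgroup G, R ≤ O → K₁ ≤ normalizer (R : Set G) → E₂ ≤ normalizer (R : Set G) → R = ⊥
  ne : U₁ ≠ ⊥

namespace Sides

variable [Finite G] {O D K₁ K₂ E₁ E₂ U₁ U₂ W₂ NR B QB : Subgroup G} (h : Sides O D K₁ K₂ E₁ E₂ U₁ U₂ W₂ NR B QB)

/-- `SS = {C_A(W₂) W₂ : A ∈ AA(C_O(U₁))}` -/
def SS (O U₁ W₂ : Subgroup G) : Set (Subgroup G) :=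
  {X | ∃ A ∈ AA (O ⊓ centralizer (U₁ : Set G)), X = (A ⊓ centralizer (W₂ : Set G)) ⊔ W₂}

include h

theorem aa_cj1 {g : G} (hg : g ∈ K₁) {A : Subgroup G} (hA : A ∈ AA (O ⊓ centralizer (U₁ : Set G))) :
    cj g A ∈ AA (O ⊓ centralizer (U₁ : Set G)) := by
  have h1 := cj_mem_AA g hA
  rwa [cj_eq_of_mem_normalizer (h.q1 hg)] at h1

theorem aa_cj2 {g : G} (hg : g ∈ K₂) {A : Subgroup G} (hA : A ∈ AA (O ⊓ centralizer (U₂ : Set G))) :
    cj g A ∈ AA (O ⊓ centralizer (U₂ : Set G)) := by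
  have h1 := cj_mem_AA g hA
  rwa [cj_eq_of_mem_normalizer (h.q2 hg)] at h1

theorem mem_O1 {A : Subgroup G} (hA : A ∈ AA (O ⊓ centralizer (U₁ : Set G))) : A ∈ AA O :=
  mem_AA_of_inf h.el1 h.UO1 h.no1 hA

theorem mem_O2 {A : Subgroup G} (hA : A ∈ AA (O ⊓ centralizer (U₂ : Set G))) : A ∈ AA O :=
  mem_AA_of_inf h.el2 h.UO2 h.no2 hA

theorem U_le {A : Subgroup G} (hA : A ∈ AA (O ⊓ centralizer (U₁ : Set G))) : U₁ ≤ A :=
  le_of_mem_inf h.el1 h.UO1 h.no1 hA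

theorem elW : IsElementaryAbelian 2 W₂ := by
  obtain ⟨A, hA⟩ := AA_nonempty (O ⊓ centralizer (U₂ : Set G))
  exact eab_mono hA.1 (h.hW A hA)

theorem WO : W₂ ≤ O := by
  obtain ⟨A, hA⟩ := AA_nonempty (O ⊓ centralizer (U₂ : Set G))
  exact (h.hW A hA).trans (hA.2.1.trans inf_le_left)

/-- `C_A(U₂) U₂` contains `W₂` -/
theorem W_le_x {A : Subgroup G} (hA : A ∈ AA O) : W₂ ≤ (A ⊓ centralizer (U₂ : Set G)) ⊔ U₂ :=
  h.hW _ (exch_inf h.el2 h.UO2 h.no2 hA)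

/-- **`C_A(U₂) = C_A(W₂)` for `A ∈ AA(O)`** -/
theorem cent_eq {A : Subgroup G} (hA : A ∈ AA O) :
    A ⊓ centralizer (U₂ : Set G) = A ⊓ centralizer (W₂ : Set G) := by
  refine le_antisymm (le_inf inf_le_left ?_) (inf_le_inf_left _ (centralizer_le h.UW))
  have h1 := exch_inf h.el2 h.UO2 h.no2 hA
  exact (le_sup_left.trans (eab_iff.1 h1.1).1).trans (centralizer_le (h.W_le_x hA))

/-- **(NO) on `W₂` for the subgroups of the members of `AA(O)`** -/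
theorem noW {A X : Subgroup G} (hA : A ∈ AA O) (hX : X ≤ A) :
    (centralizer (W₂ : Set G)).relIndex X ≤ (centralizer (X : Set G)).relIndex W₂ := by
  have e : X ⊓ centralizer (W₂ : Set G) = X ⊓ centralizer (U₂ : Set G) := by
    have h1 := h.cent_eq hA
    have h2 : X ⊓ (A ⊓ centralizer (U₂ : Set G)) = X ⊓ (A ⊓ centralizer (W₂ : Set G)) := by rw [h1]
    rw [← inf_assoc, ← inf_assoc, inf_eq_left.2 hX] at h2
    exact h2.symm
  rw [relIndex_congr e]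
  exact (h.no2 X (eab_mono hA.1 hX) (hX.trans hA.2.1)).trans (ri_mono _ h.UW)

theorem exchW {A : Subgroup G} (hA : A ∈ AA O) :
    (centralizer (W₂ : Set G)).relIndex A = (centralizer (A : Set G)).relIndex W₂ ∧
      W₂ ⊓ centralizer (A : Set G) ≤ A ∧ (A ⊓ centralizer (W₂ : Set G)) ⊔ W₂ ∈ AA O :=
  swp h.elW h.WO hA (h.noW hA le_rfl)

/-- a member of `AA(O)` centralising `W₂` is in `AA(C_O(U₂))` -/
theorem mem_two {A : Subgroup G} (hA : A ∈ AA O) (hc : A ≤ centralizer (W₂ : Set G)) :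
    A ∈ AA (O ⊓ centralizer (U₂ : Set G)) :=
  mem_inf_of_mem_AA h.el2 h.UO2 h.no2 hA (hc.trans (centralizer_le h.UW))

theorem cent_W {A : Subgroup G} (hA : A ∈ AA (O ⊓ centralizer (U₂ : Set G))) : A ≤ centralizer (W₂ : Set G) :=
  (eab_iff.1 hA.1).1.trans (centralizer_le (h.hW A hA))

theorem ss_mem {X : Subgroup G} (hX : X ∈ SS O U₁ W₂) : X ∈ AA (O ⊓ centralizer (U₂ : Set G)) := by
  obtain ⟨A, hA, rfl⟩ := hX
  exact h.mem_two (h.exchW (h.mem_O1 hA)).2.2 (sup_le inf_le_right (eab_iff.1 h.elW).1)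

/-- members of a `K₁`-invariant `SS` centralise `U₁` -/
theorem ss_cent (hg : Inv K₁ (SS O U₁ W₂)) {X : Subgroup G} (hX : X ∈ SS O U₁ W₂) :
    X ≤ centralizer (U₁ : Set G) := by
  have h1 : sSup (SS O U₁ W₂) ≤ O := sSup_le fun Z hZ => (h.ss_mem hZ).2.1.trans inf_le_left
  exact (le_sSup hX).trans (h.core1 _ h1 (Inv.le_normalizer hg))

/-- `[U₁, W₂] = 1` -/
theorem comm (hg : Inv K₁ (SS O U₁ W₂)) : W₂ ≤ centralizer (U₁ : Set G) := by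
  obtain ⟨A, hA⟩ := AA_nonempty (O ⊓ centralizer (U₁ : Set G))
  exact le_trans le_sup_right (h.ss_cent hg ⟨A, hA, rfl⟩)

/-- `SS = AA(C_O(U₁)) ∩ AA(C_O(U₂))` -/
theorem ss_eq (hg : Inv K₁ (SS O U₁ W₂)) :
    SS O U₁ W₂ = AA (O ⊓ centralizer (U₁ : Set G)) ∩ AA (O ⊓ centralizer (U₂ : Set G)) := by
  ext X
  constructor
  · intro hX
    have h1 := h.ss_mem hX
    exact ⟨mem_inf_of_mem_AA h.el1 h.UO1 h.no1 (h.mem_O2 h1) (h.ss_cent hg hX), h1⟩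
  · rintro ⟨hX, hX'⟩
    refine ⟨X, hX, ?_⟩
    rw [inf_eq_left.2 (h.cent_W hX')]
    exact (sup_eq_left.2 (h.hW X hX')).symm

/-- if no `C_A(NR)`, `A ∈ AA(C_O(U₁))`, moves `W₂`, then `SS` is `K₁`-invariant -/
theorem fail₁ (hf : ∀ A ∈ AA (O ⊓ centralizer (U₁ : Set G)),
    A ⊓ centralizer (NR : Set G) ≤ centralizer (W₂ : Set G)) : Inv K₁ (SS O U₁ W₂) := by
  have elR := eab_mono h.elW h.RW
  have key : ∀ A ∈ AA (O ⊓ centralizer (U₁ : Set G)),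
      (A ⊓ centralizer (W₂ : Set G)) ⊔ W₂ = (A ⊓ centralizer (NR : Set G)) ⊔ NR := by
    intro A hA
    have e : A ⊓ centralizer (NR : Set G) = A ⊓ centralizer (W₂ : Set G) :=
      le_antisymm (le_inf inf_le_left (hf A hA)) (inf_le_inf_left _ (centralizer_le h.RW))
    have h1 := (swp elR (h.RW.trans h.WO) (h.mem_O1 hA) (h.noR A hA)).2.2
    have h2 := (h.exchW (h.mem_O1 hA)).2.2
    rw [e] at h1 ⊢
    refine (Subgroup.eq_of_le_of_card_ge (sup_le_sup_left h.RW _) ?_).symm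
    rw [← mm_eq h1, ← mm_eq h2]
  have hD : Inv D (SS O U₁ W₂) := by
    rintro g hg _ ⟨A, hA, rfl⟩
    refine ⟨cj g A, h.aa_cj1 (h.D1 hg) hA, ?_⟩
    rw [cj_sup', cj_inf, cj_centralizer, cj_eq_of_mem_normalizer (h.KW (h.D2 hg))]
  have hE : Inv E₁ (SS O U₁ W₂) := by
    rintro g hg _ ⟨A, hA, rfl⟩
    have hA' := h.aa_cj1 (h.e1 hg) hA
    refine ⟨cj g A, hA', ?_⟩
    rw [key A hA, key _ hA', cj_sup', cj_inf, cj_centralizer, cj_eq_of_mem_normalizer (h.ER hg)]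
  exact (hD.sup hE).mono h.g1

/-- `A ∈ AA(C_O(U₂))`: `C_A(U₁) U₁ ∈ SS` contains `⟨W₂^K₁⟩` -/
theorem half (hg : Inv K₁ (SS O U₁ W₂)) {A : Subgroup G} (hA : A ∈ AA (O ⊓ centralizer (U₂ : Set G))) :
    (A ⊓ centralizer (U₁ : Set G)) ⊔ U₁ ∈ SS O U₁ W₂ ∧
      ∀ g ∈ K₁, cj g W₂ ≤ (A ⊓ centralizer (U₁ : Set G)) ⊔ U₁ := by
  have h1 : (A ⊓ centralizer (U₁ : Set G)) ⊔ U₁ ∈ AA (O ⊓ centralizer (U₁ : Set G)) :=
    exch_inf h.el1 h.UO1 h.no1 (h.mem_O2 hA)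
  have h2 : (A ⊓ centralizer (U₁ : Set G)) ⊔ U₁ ∈ AA (O ⊓ centralizer (U₂ : Set G)) := by
    refine h.mem_two (h.mem_O1 h1) (sup_le ?_ (comm_symm (h.comm hg)))
    exact inf_le_left.trans (h.cent_W hA)
  have h3 : (A ⊓ centralizer (U₁ : Set G)) ⊔ U₁ ∈ SS O U₁ W₂ := by
    rw [h.ss_eq hg]
    exact ⟨h1, h2⟩
  refine ⟨h3, fun g hgY => ?_⟩
  have h4 := hg g⁻¹ (K₁.inv_mem hgY) _ h3
  rw [h.ss_eq hg] at h4
  rw [ChoiceBase.cj_le_iff]
  exact h.hW _ h4.2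

/-- `X₁ = ⟨W₂^K₁⟩ U₁` -/
theorem X_le (hg : Inv K₁ (SS O U₁ W₂)) {A : Subgroup G} (hA : A ∈ AA (O ⊓ centralizer (U₂ : Set G))) :
    (⨆ k : K₁, cj (k : G) W₂) ⊔ U₁ ≤ (A ⊓ centralizer (U₁ : Set G)) ⊔ U₁ :=
  sup_le (iSup_le fun k => (h.half hg hA).2 k k.2) le_sup_right

/-- **(e)** if `SS` is `K₁`-invariant, some member is moved out of it by `E₂` -/
theorem exists_out (hg : Inv K₁ (SS O U₁ W₂)) :
    ∃ F ∈ AA (O ⊓ centralizer (U₂ : Set G)), F ≤ QB ∧ ¬ F ≤ centralizer (U₁ : Set G) := by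
  by_contra hcon
  push Not at hcon
  have hE : Inv E₂ (SS O U₁ W₂) := by
    intro g hgE X hX
    have h1 := h.ss_mem hX
    have h2 := h.aa_cj2 (h.e2 hgE) h1
    have h3 : X ≤ QB := by
      refine le_trans (le_inf (le_inf (h1.2.1.trans inf_le_left) (h.ss_cent hg hX)) ?_) h.BQ
      exact (h.cent_W h1).trans (centralizer_le h.BW)
    have h4 : cj g X ≤ QB := by
      have := cj_mono g h3
      rwa [cj_eq_of_mem_normalizer (h.EQ hgE)] at this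
    have h5 := hcon _ h2 h4
    rw [h.ss_eq hg]
    exact ⟨mem_inf_of_mem_AA h.el1 h.UO1 h.no1 (h.mem_O2 h2) h5, h2⟩
  have h0 : sSup (SS O U₁ W₂) = ⊥ :=
    h.nonloc _ (sSup_le fun Z hZ => (h.ss_mem hZ).2.1.trans inf_le_left) (Inv.le_normalizer hg) (Inv.le_normalizer hE)
  obtain ⟨A, hA⟩ := AA_nonempty (O ⊓ centralizer (U₁ : Set G))
  have h1 : (A ⊓ centralizer (W₂ : Set G)) ⊔ W₂ ∈ SS O U₁ W₂ := ⟨A, hA, rfl⟩
  have h2 := le_sSup h1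
  rw [h.ss_eq hg] at h1
  rw [h0] at h2
  exact h.ne (le_bot_iff.1 ((h.U_le h1.1).trans h2))

/-- **The two sides.** -/
theorem main :
    (∃ A ∈ AA (O ⊓ centralizer (U₁ : Set G)), A ∈ AA O ∧ U₁ ≤ A ∧
      ¬ A ⊓ centralizer (NR : Set G) ≤ centralizer (U₂ : Set G) ∧
      (centralizer (W₂ : Set G)).relIndex (A ⊓ centralizer (NR : Set G) : Subgroup G) =
        (centralizer ((A ⊓ centralizer (NR : Set G) : Subgroup G) : Set G)).relIndex W₂) ∨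
    (∃ X₁ : Subgroup G, X₁ = (⨆ k : K₁, cj (k : G) W₂) ⊔ U₁ ∧ IsElementaryAbelian 2 X₁ ∧
      K₁ ≤ normalizer (X₁ : Set G) ∧ X₁ ≤ O ∧ W₂ ≤ X₁ ∧ U₁ ≤ X₁ ∧
      ∃ F ∈ AA (O ⊓ centralizer (U₂ : Set G)), F ∈ AA O ∧ W₂ ≤ F ∧ F ≤ QB ∧
        F ⊓ centralizer (U₁ : Set G) ≤ centralizer (X₁ : Set G) ∧
        ¬ F ≤ centralizer (U₁ : Set G) ∧
        (centralizer (X₁ : Set G)).relIndex F = (centralizer (F : Set G)).relIndex X₁) := by
  by_cases hf : ∀ A ∈ AA (O ⊓ centralizer (U₁ : Set G)),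
      A ⊓ centralizer (NR : Set G) ≤ centralizer (W₂ : Set G)
  · right
    have hg := h.fail₁ hf
    obtain ⟨A, hA, hQ, hmov⟩ := h.exists_out hg
    have hAO := h.mem_O2 hA
    have hX := h.X_le hg hA
    have hel : IsElementaryAbelian 2 ((A ⊓ centralizer (U₁ : Set G)) ⊔ U₁ : Subgroup G) :=
      (exch h.el1 h.UO1 h.no1 hAO).2.2.1
    have hXel := eab_mono hel hX
    have hXab := (eab_iff.1 hel).1
    have hcen : A ⊓ centralizer (U₁ : Set G) ≤ centralizer (((⨆ k : K₁, cj (k : G) W₂) ⊔ U₁ : Subgroup G) : Set G) :=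
      (le_sup_left.trans hXab).trans (centralizer_le hX)
    refine ⟨_, rfl, hXel, ?_, ?_, ?_, le_sup_right, A, hA, hAO, h.hW A hA, hQ, hcen, hmov, ?_⟩
    · intro g hgK
      refine mem_normalizer_of_cj_le ?_
      rw [cj_sup', cj_eq_of_mem_normalizer (h.KU hgK)]
      refine sup_le_sup_right ?_ _
      rw [ChoiceBase.cj_le_iff]
      refine iSup_le fun k => ?_
      rw [← ChoiceBase.cj_le_iff, ChoiceBase.cj_cj]
      exact le_iSup (fun k : K₁ => cj (k : G) W₂) ⟨g * k, K₁.mul_mem hgK k.2⟩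
    · exact hX.trans (exch h.el1 h.UO1 h.no1 hAO).2.2.2.1
    · refine le_trans ?_ le_sup_left
      have h2 := le_iSup (fun k : K₁ => cj (k : G) W₂) ⟨1, K₁.one_mem⟩
      rwa [ChoiceBase.cj_one] at h2
    · exact (exact_half h.el1 h.UO1 h.no1 le_sup_right hAO hX le_rfl (exch h.el1 h.UO1 h.no1 hAO).1).2
  · left
    push Not at hf
    obtain ⟨A, hA, hmov⟩ := hf
    have hAO := h.mem_O1 hA
    refine ⟨A, hA, hAO, h.U_le hA, ?_, ?_⟩
    · intro hc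
      refine hmov ?_
      have h1 : A ⊓ centralizer (NR : Set G) ≤ A ⊓ centralizer (U₂ : Set G) := le_inf inf_le_left hc
      rw [h.cent_eq hAO] at h1
      exact h1.trans inf_le_right
    · -- `C_A(NR)` is exact on `W₂`
      have elR := eab_mono h.elW h.RW
      have h1 := (swp elR (h.RW.trans h.WO) hAO (h.noR A hA)).2.2
      have h2 := (h.exchW h1).1
      rw [relIndex_sup_of_comm (h.RW.trans (eab_iff.1 h.elW).1) inf_le_right] at h2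
      rw [h2]
      refine relIndex_congr (le_antisymm (inf_le_inf_left _ (centralizer_le
        (SetLike.coe_subset_coe.2 le_sup_left))) (le_inf inf_le_left ?_))
      refine comm_symm (sup_le (comm_symm inf_le_right) ?_)
      exact h.RW.trans (comm_symm (inf_le_left.trans (eab_iff.1 h.elW).1))

end Sides

end Cfsg.Agent.Omega.NOThreeL.RZ.TwoE
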