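import Cfsg.Agent.Omega.NOThreeL.RZ.TwoE.Nat
import Cfsg.Agent.Omega.NOThreeL.RZ.TwoE.NrTree
import Cfsg.Agent.Omega.NOThreeL.RRed.Blk.DecOrb

/-!
# [R-z]: the socket `SpO` (no transvection in `S`, all natural blocks split, `C_Z(E₁) ≠ 1`)

**`spO`** : `NrTree.SpO`.
-/

set_option autoImplicit false
set_option linter.unusedSectionVars false

namespace Cfsg.Agent.Omega.NOThreeL.RZ.TwoE.NatFam

open Subgroup Cfsg
open Cfsg.Agent.Omega.NOThreeL.Merge (isLoc_MZ)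
open Cfsg.Agent.Omega.NOThreeL.RRed.Blk.Asm (orbs_of_fam hdif_of_fam)
open Cfsg.Agent.Omega.ML.Final (MLK)

universe u

/-- **The socket `SpO`.** -/
theorem spO (hM : MLK.{u, u}) (hR : NO3b.EndX.RedP.{u, u}) (hE : ML.Ex.Two.Ext.{u, u}) : NrTree.SpO.{u} := by
  intro G _ _ S h h1 ht hn
  obtain ⟨Q, N, C, F, hne⟩ := exists_natF h ht (not_not.1 hn)
  have : Nonempty (EB S Q) := hne.to_subtype
  exact F.false_of hM hR hE h.toRB h1 (orbs_of_fam F.fam F.inp.two) (hdif_of_fam F.fam F.inp.two)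

end Cfsg.Agent.Omega.NOThreeL.RZ.TwoE.NatFam
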