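import Cfsg.Agent.ZN.CaseTwo
import Cfsg.Agent.Omega.NOThreeL.RA.OddNorm

/-!
# [R-z], nonsplit case: the fields of `FrN` which hold without any block data

`S` Sylow 2, `E, V` normalised by `Y ≥ E, S`, `V` an elementary abelian 2-group, `S_E = S ∩ E`,
`X = [C_V(S_E), N_E(S_E)]` (`XE S E V`).

* `XE_le`, `XE_le_comm`, `XE_cent`, `norm_XE` : `X ≤ V`, `X ≤ [V, E]`, `[X, S_E] = 1`, `N(S_E) ∩ N(E) ∩ N(V) ≤ N(X)`;
* **`XE_inf`** : `X ∩ C(E) = 1`;
* **`stab_cent`** : `x ∈ V` centralised by `S_E`, `h ∈ E`, `[h, x] ∈ C(E)` ⟹ `[h, x] = 1`;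
* **`sep`** : `x, x' ∈ X`, `y ∈ Y`, `x'⁻¹ x^y ∈ R ≤ C(E)` ⟹ `x^y = x'`;
* **`tr_of`** : `e ∈ X`, `e^Y ⊆ e^E C(E)` ⟹ `Y = C_Y(R) C_Y(e)`;
* `par_norm` : `S_E ≤ O₂(P)`, `P ≤ N(E) ∩ N(V)` ⟹ `P ≤ N(X)`.
-/

set_option autoImplicit false
set_option linter.unusedSectionVars false

namespace Cfsg.Agent.Omega.NOThreeL.RZ.TwoE.XFree

open Subgroup Cfsg Cfsg.Agent.ZN Cfsg.Agent.ZN.ChoiceBase Cfsg.Agent.ZN.ChoiceSit
open Cfsg.Agent.Omega.NOThreeL.RA (odd_norm)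

universe u

variable {G : Type u} [Group G]

/-- `C_V(S ∩ E)` -/
def WE (S E V : Subgroup G) : Subgroup G := V ⊓ centralizer ((S ⊓ E : Subgroup G) : Set G)

/-- `N_E(S ∩ E)` -/
def TE (S E : Subgroup G) : Subgroup G := E ⊓ normalizer ((S ⊓ E : Subgroup G) : Set G)

/-- `X = [C_V(S ∩ E), N_E(S ∩ E)]` -/
def XE (S E V : Subgroup G) : Subgroup G :=
  closure {w | ∃ t ∈ TE S E, ∃ v ∈ WE S E V, w = t * v * t⁻¹ * v⁻¹}

theorem mem_XE {S E V : Subgroup G} {t v : G} (ht : t ∈ TE S E) (hv : v ∈ WE S E V) : t * v * t⁻¹ * v⁻¹ ∈ XE S E V :=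
  subset_closure ⟨t, ht, v, hv, rfl⟩

theorem norm_of {H : Subgroup G} {g : G} (hg : g ∈ normalizer (H : Set G)) {x : G} (hx : x ∈ H) : g * x * g⁻¹ ∈ H :=
  (mem_normalizer_iff.1 hg x).1 hx

theorem norm_inf {A B : Subgroup G} {g : G} (h1 : g ∈ normalizer (A : Set G)) (h2 : g ∈ normalizer (B : Set G)) :
    g ∈ normalizer ((A ⊓ B : Subgroup G) : Set G) := by
  rw [mem_normalizer_iff_cj, cj_inf, cj_eq_of_mem_normalizer h1, cj_eq_of_mem_normalizer h2]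

theorem norm_cent {A : Subgroup G} {g : G} (h : g ∈ normalizer (A : Set G)) :
    g ∈ normalizer ((centralizer (A : Set G) : Subgroup G) : Set G) := by
  rw [mem_normalizer_iff_cj, cj_centralizer, cj_eq_of_mem_normalizer h]

theorem norm_WE {S E V : Subgroup G} {g : G} (h1 : g ∈ normalizer ((S ⊓ E : Subgroup G) : Set G))
    (h2 : g ∈ normalizer (V : Set G)) : g ∈ normalizer (WE S E V : Set G) :=
  norm_inf h2 (norm_cent h1)

theorem norm_TE {S E : Subgroup G} {g : G} (h1 : g ∈ normalizer ((S ⊓ E : Subgroup G) : Set G))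
    (h2 : g ∈ normalizer (E : Set G)) : g ∈ normalizer (TE S E : Set G) := by
  refine norm_inf h2 ?_
  rw [mem_normalizer_iff_cj, cj_normalizer, cj_eq_of_mem_normalizer h1]

/-- `N(S_E) ∩ N(E) ∩ N(V) ≤ N(X)` -/
theorem norm_XE [Finite G] {S E V : Subgroup G} {g : G} (h1 : g ∈ normalizer ((S ⊓ E : Subgroup G) : Set G))
    (h2 : g ∈ normalizer (E : Set G)) (h3 : g ∈ normalizer (V : Set G)) : g ∈ normalizer (XE S E V : Set G) := by
  refine mem_normalizer_of_cj_le ?_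
  rw [cj_le_iff, XE, closure_le]
  rintro _ ⟨t, ht, v, hv, rfl⟩
  rw [SetLike.mem_coe, mem_cj]
  have h4 := mem_XE (norm_of (norm_TE h1 h2) ht) (norm_of (norm_WE h1 h3) hv)
  have e : g * t * g⁻¹ * (g * v * g⁻¹) * (g * t * g⁻¹)⁻¹ * (g * v * g⁻¹)⁻¹ =
      g⁻¹⁻¹ * (t * v * t⁻¹ * v⁻¹) * g⁻¹ := by group
  rwa [e] at h4

section

variable {S E V : Subgroup G} (hEV : E ≤ normalizer (V : Set G))
include hEV

theorem XE_le_WE : XE S E V ≤ WE S E V := by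
  rw [XE, closure_le]
  rintro _ ⟨t, ht, v, hv, rfl⟩
  exact mul_mem (norm_of (norm_WE ht.2 (hEV ht.1)) hv) (inv_mem hv)

theorem XE_le : XE S E V ≤ V := (XE_le_WE hEV).trans inf_le_left

theorem XE_cent : XE S E V ≤ centralizer ((S ⊓ E : Subgroup G) : Set G) := (XE_le_WE hEV).trans inf_le_right

omit hEV in
theorem XE_le_comm : XE S E V ≤ ⁅V, E⁆ := by
  rw [XE, closure_le, commutator_comm]
  rintro _ ⟨t, ht, v, hv, rfl⟩
  exact commutator_mem_commutator ht.1 hv.1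

end

/-! ### `S ∩ E` is a Sylow subgroup of `E` -/

theorem syl_inf [Finite G] {T H N : Subgroup G} (hT : Syl T H) (hN : N ≤ H)
    (hn : H ≤ normalizer (N : Set G)) : Syl (T ⊓ N) N := by
  refine ⟨inf_le_right, hT.2.1.to_le inf_le_left, ?_⟩
  intro R hR h2 hTR
  obtain ⟨S, hS, hRS⟩ := exists_syl h2 (hR.trans hN)
  obtain ⟨x, hx, e⟩ := syl_conj hS hT
  have h1 : cj x R ≤ T ⊓ N := by
    refine le_inf ((cj_mono x hRS).trans e.le) ?_
    have := cj_mono x hR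
    rwa [cj_eq_of_mem_normalizer (hn hx)] at this
  have h3 := Subgroup.card_le_of_le h1
  rw [card_cj] at h3
  exact (Subgroup.eq_of_le_of_card_ge hTR h3).symm

theorem syl_mono {T H K : Subgroup G} (h : Syl T K) (hT : T ≤ H) (hH : H ≤ K) : Syl T H :=
  ⟨hT, h.2.1, fun Q hQ h2 hTQ => h.2.2 Q (hQ.trans hH) h2 hTQ⟩

section main

variable [Finite G] {S E V : Subgroup G} (hS : Syl (S ⊓ E) E) (hEV : E ≤ normalizer (V : Set G))
  (hc : ∀ x ∈ V, ∀ y ∈ V, x * y = y * x) (h2 : ∀ x ∈ V, x * x = 1)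
include hS hEV hc h2

/-- **`X ∩ C(E) = 1`** -/
theorem XE_inf : XE S E V ⊓ centralizer (E : Set G) = ⊥ := by
  have hWV : WE S E V ≤ V := inf_le_left
  have hodd : ¬ 2 ∣ (centralizer (WE S E V : Set G)).relIndex (TE S E) := by
    have h3 : (S ⊓ E) ≤ centralizer (WE S E V : Set G) := by
      intro s hs
      rw [mem_centralizer_iff]
      intro v hv
      exact (mem_centralizer_iff.1 hv.2 s hs).symm
    have h4 : (S ⊓ E) ≤ TE S E := le_inf inf_le_right le_normalizer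
    have h5 := syl_not_dvd (syl_mono hS h4 (inf_le_left : TE S E ≤ E))
    exact fun h6 => h5 (h6.trans (relIndex_dvd_of_le_left _ h3))
  obtain ⟨N, hN1, hN2, hN3, hN4, hN5, -⟩ := odd_norm (Z := WE S E V) (X := TE S E)
    (fun x hx y hy => hc x (hWV hx) y (hWV hy)) (fun x hx => h2 x (hWV hx))
    (fun t ht => norm_WE ht.2 (hEV ht.1)) hodd
  have hN0 : N 1 = 1 := by
    have h3 := hN2 1 (one_mem _) 1 (one_mem _)
    rw [mul_one] at h3
    exact left_eq_mul.mp h3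
  -- `N` is trivial on `X`
  have key : ∀ x ∈ XE S E V, x ∈ WE S E V ∧ N x = 1 := by
    intro x hx
    refine ⟨XE_le_WE hEV hx, ?_⟩
    have h3 : x ∈ WE S E V := XE_le_WE hEV hx
    induction hx using closure_induction with
    | mem x hx =>
      obtain ⟨t, ht, v, hv, rfl⟩ := hx
      have h4 := norm_of (norm_WE (V := V) ht.2 (hEV ht.1)) hv
      rw [hN2 _ h4 _ (inv_mem hv), hN3 t ht v hv, ← hN2 _ hv _ (inv_mem hv), mul_inv_cancel, hN0]
    | one => exact hN0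
    | mul x y hx hy ihx ihy =>
      have hx' : x ∈ WE S E V := XE_le_WE hEV hx
      have hy' : y ∈ WE S E V := XE_le_WE hEV hy
      rw [hN2 x hx' y hy', ihx hx', ihy hy', mul_one]
    | inv x hx ih =>
      have hx' : x ∈ WE S E V := XE_le_WE hEV hx
      have e : x⁻¹ = x := inv_eq_of_mul_eq_one_left (h2 x (hWV hx'))
      rw [e]
      exact ih hx'
  rw [eq_bot_iff]
  rintro x ⟨hx, hxE⟩
  obtain ⟨h3, h4⟩ := key x hx
  have h5 : N x = x := by
    refine hN5 x h3 fun t ht => ?_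
    have h6 := mem_centralizer_iff.1 hxE t ht.1
    rw [h6, mul_inv_cancel_right]
  rw [mem_bot, ← h5, h4]

/-- **`Stab_E(x C(E)) = C_E(x)`** for `x ∈ V` centralised by `S ∩ E`. -/
theorem stab_cent {x h : G} (hx : x ∈ V) (hxS : x ∈ centralizer ((S ⊓ E : Subgroup G) : Set G)) (hh : h ∈ E)
    (hr : h * x * h⁻¹ * x⁻¹ ∈ centralizer (E : Set G)) : h * x * h⁻¹ = x := by
  -- the stabiliser
  let H : Subgroup G :=
    { carrier := {h | h ∈ E ∧ h * x * h⁻¹ * x⁻¹ ∈ centralizer (E : Set G)}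
      mul_mem' := by
        rintro a b ⟨ha, ha'⟩ ⟨hb, hb'⟩
        refine ⟨mul_mem ha hb, ?_⟩
        have h3 := mem_centralizer_iff.1 hb' a ha
        have e : a * b * x * (a * b)⁻¹ * x⁻¹ = (a * (b * x * b⁻¹ * x⁻¹)) * x * a⁻¹ * x⁻¹ := by group
        rw [e, h3]
        have e1 : b * x * b⁻¹ * x⁻¹ * a * x * a⁻¹ * x⁻¹ = (b * x * b⁻¹ * x⁻¹) * (a * x * a⁻¹ * x⁻¹) := by group
        rw [e1]
        exact mul_mem hb' ha'
      one_mem' := by
        refine ⟨one_mem _, ?_⟩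
        have e : (1 : G) * x * 1⁻¹ * x⁻¹ = 1 := by group
        rw [e]
        exact one_mem _
      inv_mem' := by
        rintro a ⟨ha, ha'⟩
        refine ⟨inv_mem ha, ?_⟩
        have h3 := mem_centralizer_iff.1 (inv_mem ha') a⁻¹ (inv_mem ha)
        -- `a⁻¹ x a x⁻¹ = c⁻¹`
        have e : a⁻¹ * x * a⁻¹⁻¹ * x⁻¹ = (a⁻¹ * (a * x * a⁻¹ * x⁻¹)⁻¹) * a := by group
        rw [e, h3, inv_mul_cancel_right]
        exact inv_mem ha' }
  have hHE : H ≤ E := fun a ha => ha.1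
  have hval : ∀ a ∈ H, a * x * a⁻¹ * x⁻¹ ∈ V := fun a ha => mul_mem (norm_of (hEV ha.1) hx) (inv_mem hx)
  let f : H →* G := MonoidHom.mk' (fun a => (a : G) * x * (a : G)⁻¹ * x⁻¹) (by
    rintro ⟨a, ha⟩ ⟨b, hb⟩
    have h3 := mem_centralizer_iff.1 hb.2 a ha.1
    change a * b * x * (a * b)⁻¹ * x⁻¹ = (a * x * a⁻¹ * x⁻¹) * (b * x * b⁻¹ * x⁻¹)
    have e : a * b * x * (a * b)⁻¹ * x⁻¹ = (a * (b * x * b⁻¹ * x⁻¹)) * x * a⁻¹ * x⁻¹ := by group
    rw [e, h3, hc _ (hval a ha) _ (hval b hb)]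
    group)
  have hSH : (S ⊓ E) ≤ H := by
    intro s hs
    refine ⟨hs.2, ?_⟩
    have h3 := mem_centralizer_iff.1 hxS s hs
    have e : s * x * s⁻¹ * x⁻¹ = 1 := by rw [h3]; group
    rw [e]
    exact one_mem _
  have hker : (S ⊓ E).subgroupOf H ≤ f.ker := by
    rintro ⟨s, hs⟩ hs'
    rw [MonoidHom.mem_ker]
    change s * x * s⁻¹ * x⁻¹ = 1
    have h3 := mem_centralizer_iff.1 hxS s (mem_subgroupOf.1 hs')
    rw [h3]
    group
  have hodd : ¬ 2 ∣ Nat.card f.range := by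
    rw [← index_ker]
    have h5 := syl_not_dvd (syl_mono hS hSH hHE)
    exact fun h6 => h5 (h6.trans (index_dvd_of_le hker))
  have hrange : IsPGroup 2 f.range := by
    intro y
    obtain ⟨a, ha⟩ := y.2
    refine ⟨1, Subtype.ext ?_⟩
    have h3 := hval a a.2
    have h4 := h2 _ h3
    have h5 : (y : G) = (a : G) * x * (a : G)⁻¹ * x⁻¹ := ha.symm
    rw [pow_one, coe_pow, pow_two, h5]
    exact h4
  have : Fact (Nat.Prime 2) := ⟨Nat.prime_two⟩
  have hcard : Nat.card f.range = 1 := (hrange.card_eq_or_dvd).resolve_right hodd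
  have hbot : f.range = ⊥ := card_eq_one.1 hcard
  have h6 : f ⟨h, hh, hr⟩ ∈ f.range := ⟨_, rfl⟩
  rw [hbot, mem_bot] at h6
  change h * x * h⁻¹ * x⁻¹ = 1 at h6
  exact mul_inv_eq_one.1 h6

variable {Y X : Subgroup G} (hYE : Y ≤ normalizer (E : Set G)) (hEY : E ≤ Y) (XV : X ≤ V)
  (XS : X ≤ centralizer ((S ⊓ E : Subgroup G) : Set G))
  (Xn : Y ⊓ normalizer ((S ⊓ E : Subgroup G) : Set G) ≤ normalizer (X : Set G))
  (X1 : X ⊓ centralizer (E : Set G) = ⊥) (hYV : Y ≤ normalizer (V : Set G))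
include hYE hEY XV XS Xn X1 hYV

/-- **Every coset of `C(E)` contains at most one conjugate of elements of `X`.** -/
theorem sep {x x' y : G} (hx : x ∈ X) (hx' : x' ∈ X) (hy : y ∈ Y)
    (hr : x'⁻¹ * (y * x * y⁻¹) ∈ centralizer (E : Set G)) : y * x * y⁻¹ = x' := by
  -- the stabiliser `H` of `x' C(E)` fixes `x'` and `x ^ y`
  have hxV := XV hx
  have hxV' := XV hx'
  have hyV : y * x * y⁻¹ ∈ V := norm_of (hYV hy) hxV
  have hyE : cj y E = E := cj_eq_of_mem_normalizer (hYE hy)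
  set x'' : G := y * x * y⁻¹ with hx''
  have hcom : ∀ h ∈ E, (h * x' = x' * h ↔ h * x'' = x'' * h) := by
    intro h hh
    have h3 := mem_centralizer_iff.1 hr h hh
    constructor
    · intro h4
      calc h * x'' = (h * x') * (x'⁻¹ * x'') := by group
        _ = x' * (h * (x'⁻¹ * x'')) := by rw [h4]; group
        _ = x' * ((x'⁻¹ * x'') * h) := by rw [h3]
        _ = x'' * h := by group
    · intro h4
      have h5 : h * (x'⁻¹ * x'')⁻¹ = (x'⁻¹ * x'')⁻¹ * h := by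
        rw [eq_inv_mul_iff_mul_eq, ← mul_assoc, ← h3]
        group
      calc h * x' = (h * x'') * (x'⁻¹ * x'')⁻¹ := by group
        _ = x'' * (h * (x'⁻¹ * x'')⁻¹) := by rw [h4]; group
        _ = x'' * ((x'⁻¹ * x'')⁻¹ * h) := by rw [h5]
        _ = x' * h := by group
  let H : Subgroup G := E ⊓ centralizer ({x'} : Set G)
  have h1 : (S ⊓ E) ≤ H := by
    refine le_inf inf_le_right fun s hs => ?_
    rw [mem_centralizer_iff]
    rintro _ rfl
    exact (mem_centralizer_iff.1 (XS hx') s hs).symm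
  have h3 : cj y (S ⊓ E) ≤ H := by
    intro s hs
    have hs' := mem_cj.1 hs
    have hsE : s ∈ E := by
      have : s ∈ cj y E := mem_cj.2 hs'.2
      rwa [hyE] at this
    refine mem_inf.2 ⟨hsE, mem_centralizer_iff.2 ?_⟩
    rintro _ rfl
    refine ((hcom s hsE).2 ?_).symm
    have h4 := mem_centralizer_iff.1 (XS hx) _ hs'
    rw [hx'']
    calc s * (y * x * y⁻¹) = y * (y⁻¹ * s * y * x) * y⁻¹ := by group
      _ = y * (x * (y⁻¹ * s * y)) * y⁻¹ := by rw [h4]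
      _ = y * x * y⁻¹ * s := by group
  have s1 : Syl (S ⊓ E) H := syl_mono hS h1 inf_le_left
  have s2 : Syl (cj y (S ⊓ E)) H := by
    have h4 := Cfsg.Agent.ZN.CaseTwo.syl_cj y hS
    rw [hyE] at h4
    exact syl_mono h4 h3 inf_le_left
  obtain ⟨h, hh, e⟩ := syl_conj s2 s1
  rw [cj_cj] at e
  have hhY : h * y ∈ Y ⊓ normalizer ((S ⊓ E : Subgroup G) : Set G) :=
    ⟨mul_mem (hEY hh.1) hy, mem_normalizer_iff_cj.2 e⟩
  have h5 : h * x' = x' * h := ((mem_centralizer_iff.1 hh.2) x' rfl).symm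
  have h6 : h * x'' = x'' * h := (hcom h hh.1).1 h5
  have h7 : x'' ∈ X := by
    have h8 := norm_of (Xn hhY) hx
    have e1 : h * y * x * (h * y)⁻¹ = x'' := by
      calc h * y * x * (h * y)⁻¹ = (h * x'') * h⁻¹ := by rw [hx'']; group
        _ = x'' := by rw [h6, mul_inv_cancel_right]
    rwa [e1] at h8
  have h9 : x'⁻¹ * x'' ∈ X ⊓ centralizer (E : Set G) := mem_inf.2 ⟨mul_mem (inv_mem hx') h7, hr⟩
  rw [X1, mem_bot] at h9
  exact (inv_mul_eq_one.1 h9).symm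

/-- **`Y = C_Y(R) C_Y(e)`** -/
theorem tr_of {R : Subgroup G} (hR : R ≤ centralizer (E : Set G)) {e : G} (he : e ∈ X)
    (ht : ∀ y ∈ Y, ∃ g ∈ E, (g * e * g⁻¹)⁻¹ * (y * e * y⁻¹) ∈ centralizer (E : Set G)) :
    Y ≤ (Y ⊓ centralizer (R : Set G)) ⊔ (Y ⊓ centralizer ({e} : Set G)) := by
  intro y hy
  obtain ⟨g, hg, h3⟩ := ht y hy
  have h4 : e⁻¹ * ((g⁻¹ * y) * e * (g⁻¹ * y)⁻¹) ∈ centralizer (E : Set G) := by
    have h5 : g⁻¹ * ((g * e * g⁻¹)⁻¹ * (y * e * y⁻¹)) * g⁻¹⁻¹ ∈ centralizer (E : Set G) :=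
      norm_of (norm_cent (le_normalizer (inv_mem hg))) h3
    have e1 : g⁻¹ * ((g * e * g⁻¹)⁻¹ * (y * e * y⁻¹)) * g⁻¹⁻¹ = e⁻¹ * ((g⁻¹ * y) * e * (g⁻¹ * y)⁻¹) := by group
    rwa [e1] at h5
  have hgy : g⁻¹ * y ∈ Y := mul_mem (inv_mem (hEY hg)) hy
  have h5 := sep hS hEV hc h2 hYE hEY XV XS Xn X1 hYV he he hgy h4
  have h6 : g ∈ Y ⊓ centralizer (R : Set G) := by
    refine mem_inf.2 ⟨hEY hg, mem_centralizer_iff.2 fun r hr => ?_⟩
    exact ((mem_centralizer_iff.1 (hR hr)) g hg).symm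
  have h7 : g⁻¹ * y ∈ Y ⊓ centralizer ({e} : Set G) := by
    refine mem_inf.2 ⟨hgy, mem_centralizer_iff.2 ?_⟩
    rintro _ rfl
    exact (mul_inv_eq_iff_eq_mul.1 h5).symm
  have h8 := mul_mem_sup h6 h7
  rwa [mul_inv_cancel_left] at h8

end main

/-! ### `P*(S)` -/

/-- `S_E ≤ O₂(P)`, `P` normalises `E`, `V` ⟹ `P ≤ N(X)` -/
theorem par_norm [Finite G] {S : Sylow 2 G} {P E V : Subgroup G} (hSP : o2 P ≤ (S : Subgroup G))
    (hE : P ≤ normalizer (E : Set G)) (hV : P ≤ normalizer (V : Set G)) (hn : P ≤ normalizer (o2 P : Set G))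
    (h : (S : Subgroup G) ⊓ E ≤ o2 P) : P ≤ normalizer (XE (S : Subgroup G) E V : Set G) := by
  have e : (S : Subgroup G) ⊓ E = o2 P ⊓ E := le_antisymm (le_inf h inf_le_right) (inf_le_inf_right _ hSP)
  intro p hp
  refine norm_XE ?_ (hE hp) (hV hp)
  rw [e]
  exact norm_inf (hn hp) (hE hp)

end Cfsg.Agent.Omega.NOThreeL.RZ.TwoE.XFree
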